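import Cfsg.Agent.Lib.Spor.MonsterType.Prime.Fixed
import Cfsg.Agent.Lib.Spor.Fi22Model.FStar
import Cfsg.Agent.Lib.PGroup.SymplecticPairs

/-!
# The centralizer of an element of odd prime order, modulo it, and its extraspecial setting
-/

set_option autoImplicit false

namespace CfsgLib.Spor.MonsterType.Prime

open Subgroup CfsgLib.Spor CfsgLib.Spor.Leech CfsgLib.Spor.MonsterType.Seven
open scoped commutatorElement
open Cfsg (leechLattice Co0 sqNorm GolayPt)

noncomputable section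

/-- The centralizer of the automorphism. -/
abbrev Std.cent {p d : ℕ} (S : Std p d) : Subgroup Co0 := centralizer {S.P}

theorem Std.P_mem {p d : ℕ} (S : Std p d) : S.P ∈ S.cent := mem_centralizer_singleton_iff.2 rfl

theorem Std.neg_mem {p d : ℕ} (S : Std p d) : negAut ∈ S.cent :=
  mem_centralizer_singleton_iff.2 (mem_center_iff.1 negAut_central S.P).symm

/-- A homomorphism describing the action of the centralizer on the fixed classes. -/
structure Act {p d : ℕ} (S : Std p d) (T : Type) [Group T] where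
  χ : ↥S.cent →* T
  surj : Function.Surjective χ
  neg : χ ⟨negAut, S.neg_mem⟩ = 1
  self : χ ⟨S.P, S.P_mem⟩ = 1
  triv : ∀ x : ↥S.cent, (∀ v : leechLattice, S.P • v = v → Cong v ((x : Co0) • v)) → χ x = 1
  ker : ∀ x : ↥S.cent, χ x = 1 → ∃ k : ℕ, (x : Co0) = S.P ^ k ∨ (x : Co0) = negAut * S.P ^ k
  nonormal : ∀ U : Subgroup T, U.Normal → IsPGroup 2 U → U = ⊥

variable {G : Type*} [Group G] [Finite G] {z : G} {Q : Subgroup G} {R : leechLattice → G → Prop}
  {π : ↥(centralizer ({z} : Set G)) →* Cfsg.Spor.Co1} {D : Data z Q R π} {p d : ℕ} {S : Std p d} {b : G}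

/-- The joint centralizer. -/
abbrev J0 (z b : G) : Subgroup G := centralizer ({z} : Set G) ⊓ centralizer ({b} : Set G)

omit [Finite G] in
theorem mem_cent_zpowers {b m : G} : m ∈ centralizer (zpowers b : Set G) ↔ m * b = b * m := by
  rw [zpowers_eq_closure, centralizer_closure]
  exact mem_centralizer_singleton_iff

omit [Finite G] in
theorem eq_one_of_four {p : ℕ} (hp : Odd p) {a : G} (h7 : a ^ p = 1) (h4 : a ^ 4 = 1) : a = 1 := by
  have h : orderOf a ∣ Nat.gcd p (2 ^ 2) := Nat.dvd_gcd (orderOf_dvd_of_pow_eq_one h7) (orderOf_dvd_of_pow_eq_one h4)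
  rw [Nat.Coprime.gcd_eq_one (Nat.Coprime.pow_right 2 hp.coprime_two_right), Nat.dvd_one] at h
  exact orderOf_eq_one_iff.1 h

theorem Elt.pow_four (E : Elt D S b) {a : G} (ha : a ∈ Q) : a ^ 4 = 1 := by
  rw [show (4 : ℕ) = 2 * 2 from rfl, pow_mul, pow_two a]
  rcases D.core.sq_eq a ha with e | e <;> rw [e]
  · rw [one_pow]
  · rw [pow_two, D.zz]

variable {T : Type} [Group T] (A : Act S T)
include A

theorem Act.lift_congr {x y : ↥S.cent} (h : (QuotientGroup.mk (x : Co0) : Cfsg.Spor.Co1) = QuotientGroup.mk (y : Co0)) :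
    A.χ x = A.χ y := by
  have hm : (x : Co0)⁻¹ * (y : Co0) ∈ center Co0 := QuotientGroup.eq.1 h
  rcases mem_center_iff_eq.1 hm with e | e
  · rw [show x = y from Subtype.ext (inv_mul_eq_one.1 e)]
  · rw [show y = x * ⟨negAut, S.neg_mem⟩ from Subtype.ext (eq_mul_of_inv_mul_eq e), map_mul, A.neg, mul_one]

omit A in
theorem Elt.exists_lift (E : Elt D S b) (c : ↥(J0 z b)) :
    ∃ x : ↥S.cent, (QuotientGroup.mk (x : Co0) : Cfsg.Spor.Co1) = π ⟨c, c.2.1⟩ := by
  obtain ⟨x, hx⟩ := QuotientGroup.mk_surjective (π ⟨c, c.2.1⟩)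
  have h : (QuotientGroup.mk (x * S.P * x⁻¹) : Cfsg.Spor.Co1) = QuotientGroup.mk S.P := by
    rw [QuotientGroup.mk_mul, QuotientGroup.mk_mul, QuotientGroup.mk_inv, hx, ← E.img, ← map_inv, ← map_mul,
      ← map_mul]
    exact congrArg π (Subtype.ext (mul_inv_eq_iff_eq_mul.2 (mem_centralizer_singleton_iff.1 c.2.2)))
  refine ⟨⟨x, mem_centralizer_singleton_iff.2 ?_⟩, hx⟩
  have hm : (x * S.P * x⁻¹)⁻¹ * S.P ∈ center Co0 := QuotientGroup.eq.1 h
  rcases mem_center_iff_eq.1 hm with e | e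
  · exact mul_inv_eq_iff_eq_mul.1 (inv_mul_eq_one.1 e)
  · exfalso
    have hP : S.P = x * S.P * x⁻¹ * negAut := eq_mul_of_inv_mul_eq e
    have h7 := congrArg (fun g : Co0 => g ^ p) hP
    rw [(show Commute (x * S.P * x⁻¹) negAut from mem_center_iff.1 negAut_central _).mul_pow, conj_pow,
      S.hpow, mul_one, mul_inv_cancel, one_mul] at h7
    have h2 : negAut ^ 2 = 1 := by
      rw [pow_two]; exact sgnAut_sq Cfsg.Spor.univ_mem_supports_golayCode
    obtain ⟨m, hm⟩ := E.odd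
    rw [hm, pow_succ, pow_mul, h2, one_pow, one_mul] at h7
    exact negAut_ne_one h7.symm

omit A in
/-- The lift of the image in the first Conway group. -/
def Elt.lift (E : Elt D S b) (c : ↥(J0 z b)) : ↥S.cent := (E.exists_lift c).choose

omit A in
theorem Elt.lift_spec (E : Elt D S b) (c : ↥(J0 z b)) :
    (QuotientGroup.mk ((E.lift c : ↥S.cent) : Co0) : Cfsg.Spor.Co1) = π ⟨c, c.2.1⟩ := (E.exists_lift c).choose_spec

variable (E : Elt D S b)
include E

/-- The action of the joint centralizer. -/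
def Act.phi : ↥(J0 z b) →* T :=
  MonoidHom.mk' (fun c => A.χ (E.lift c)) fun c d => by
    rw [← map_mul]
    refine A.lift_congr ?_
    rw [coe_mul, QuotientGroup.mk_mul, E.lift_spec, E.lift_spec, E.lift_spec, ← map_mul]
    rfl

theorem Act.phi_surjective : Function.Surjective (A.phi E) := by
  intro t
  obtain ⟨x, rfl⟩ := A.surj t
  obtain ⟨c, hc⟩ := D.surj (QuotientGroup.mk (x : Co0))
  let V : Set G := {y | ∃ q ∈ Q, y = (c : G) * q}
  have hcomm : π ((⟨b, E.mem⟩ : ↥(centralizer ({z} : Set G))) * c) = π (c * ⟨b, E.mem⟩) := by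
    rw [map_mul, map_mul, E.img, hc, ← QuotientGroup.mk_mul, ← QuotientGroup.mk_mul, mem_centralizer_singleton_iff.1 x.2]
  have hq0 : (c : G)⁻¹ * b * c * b⁻¹ ∈ Q := by
    refine (D.kerπ (c⁻¹ * ⟨b, E.mem⟩ * c * (⟨b, E.mem⟩ : ↥(centralizer ({z} : Set G)))⁻¹)).1 ?_
    rw [mul_assoc c⁻¹, map_mul, map_mul, hcomm, map_mul, map_inv, map_inv, inv_mul_cancel_left,
      mul_inv_cancel]
  have hS : ∀ y ∈ V, b * y * b⁻¹ ∈ V := by
    rintro _ ⟨q, hq, rfl⟩
    refine ⟨((c : G)⁻¹ * b * c * b⁻¹) * (b * q * b⁻¹), Q.mul_mem hq0 (D.core.norm b E.bz q hq), ?_⟩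
    group
  have hcard : V.ncard = 2 ^ 25 := by
    rw [← D.card, show V = (fun q => (c : G) * q) '' (Q : Set G) from
        Set.ext fun y => ⟨fun ⟨q, hq, e⟩ => ⟨q, hq, e.symm⟩, fun ⟨q, hq, e⟩ => ⟨q, hq, e.symm⟩⟩,
      Set.ncard_image_of_injective _ (mul_right_injective _), ← Nat.card_coe_set_eq]
    rfl
  haveI : Fact p.Prime := ⟨E.prime⟩
  obtain ⟨_, ⟨q, hq, rfl⟩, hb⟩ := exists_fixed_prime (p := p) E.two_lt E.powp V hS hcard
  refine ⟨⟨(c : G) * q, mul_mem c.2 (D.core.le hq), mem_centralizer_singleton_iff.2 hb.symm⟩, ?_⟩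
  refine A.lift_congr ?_
  rw [E.lift_spec]
  show π (c * ⟨q, D.core.le hq⟩) = _
  rw [map_mul, (D.kerπ ⟨q, D.core.le hq⟩).2 hq, mul_one, hc]

theorem Act.phi_eq_one_iff (c : ↥(J0 z b)) :
    (A.phi E) c = 1 ↔ ∃ q ∈ fixed Q b, ∃ k : ℕ, (c : G) = q * b ^ k := by
  constructor
  · intro h
    obtain ⟨k, hk⟩ := A.ker (E.lift c) h
    have hπ : π ⟨c, c.2.1⟩ = π (⟨b, E.mem⟩ ^ k) := by
      rw [← E.lift_spec, map_pow, E.img, ← QuotientGroup.mk_pow]
      rcases hk with hk | hk <;> rw [hk]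
      rw [QuotientGroup.mk_mul, (QuotientGroup.eq_one_iff _).2 negAut_central, one_mul]
    have hq : (c : G) * (b ^ k)⁻¹ ∈ Q := by
      refine (D.kerπ (⟨c, c.2.1⟩ * (⟨b, E.mem⟩ ^ k : ↥(centralizer ({z} : Set G)))⁻¹)).1 ?_
      rw [map_mul, map_inv, hπ, mul_inv_cancel]
    exact ⟨_, ⟨hq, (centralizer ({b} : Set G)).mul_mem c.2.2 ((centralizer ({b} : Set G)).inv_mem (pow_mem (mem_centralizer_singleton_iff.2 rfl) k))⟩, k,
      (inv_mul_cancel_right _ _).symm⟩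
  · rintro ⟨q, hq, k, e⟩
    have hb : (b : G) ∈ J0 z b := ⟨E.mem, mem_centralizer_singleton_iff.2 rfl⟩
    have e' : c = ⟨q, D.core.le hq.1, hq.2⟩ * (⟨b, hb⟩ : ↥(J0 z b)) ^ k := Subtype.ext e
    have h1 : (A.phi E) ⟨q, D.core.le hq.1, hq.2⟩ = 1 := by
      show A.χ _ = 1
      rw [← map_one A.χ]
      refine A.lift_congr ?_
      rw [E.lift_spec, (D.kerπ _).2 hq.1]
      rfl
    have h2 : (A.phi E) ⟨b, hb⟩ = 1 := by
      show A.χ _ = 1
      rw [← A.self]
      exact A.lift_congr ((E.lift_spec _).trans E.img)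
    rw [e', map_mul, map_pow, h1, h2, one_pow, one_mul]

/-- An element centralizing the fixed points acts trivially. -/
theorem Act.phi_of_centralizes (c : ↥(J0 z b)) (h : ∀ r ∈ fixed Q b, r * (c : G) = c * r) : (A.phi E) c = 1 := by
  refine A.triv _ fun v hv => ?_
  obtain ⟨q, hr⟩ := D.repr v
  have hq : q ∈ fixed Q b := (E.mem_fixed_iff hr).2 (by rw [hv]; exact Cong.refl _)
  have h' := D.conj ⟨c, c.2.1⟩ (E.lift_spec c).symm hr
  change R _ ((c : G) * q * (c : G)⁻¹) at h'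
  rw [mul_inv_eq_iff_eq_mul.2 (h _ hq).symm] at h'
  exact D.congr_of_fixed hr h'

theorem Act.setting {w : ℕ} (hd : d = 2 * w) (B : Subgroup G) (hB : B = zpowers b)
    [hn : (B.subgroupOf (centralizer (B : Set G))).Normal] :
    ∃ (zb : ↥(centralizer (B : Set G)) ⧸ B.subgroupOf (centralizer (B : Set G)))
      (Rb : Subgroup (centralizer ({zb} : Set (↥(centralizer (B : Set G)) ⧸ B.subgroupOf (centralizer (B : Set G))))))
      (_ : Rb.Normal), Cfsg.IsExtraspecialCentralizerSetting zb Rb w ∧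
        Nonempty ((centralizer ({zb} : Set (↥(centralizer (B : Set G)) ⧸ B.subgroupOf (centralizer (B : Set G))))) ⧸ Rb ≃* T) := by
  subst hB
  classical
  haveI : Fact (Nat.Prime 2) := ⟨Nat.prime_two⟩
  set M := centralizer (zpowers b : Set G) with hM
  set N := (zpowers b).subgroupOf M with hN
  let pr : ↥M →* ↥M ⧸ N := QuotientGroup.mk' N
  have hzM : z ∈ M := mem_cent_zpowers.2 E.bz.symm
  let zb : ↥M ⧸ N := pr ⟨z, hzM⟩
  have hone : ∀ m : ↥M, pr m = 1 ↔ (m : G) ∈ zpowers b := fun m => QuotientGroup.eq_one_iff m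
  have hBp : ∀ x ∈ zpowers b, x ^ p = 1 := fun x hx => by
    obtain ⟨i, rfl⟩ := mem_zpowers_iff.1 hx
    rw [← zpow_natCast, ← zpow_mul, mul_comm, zpow_mul, zpow_natCast, E.powp, one_zpow]
  -- two elements of order dividing four commuting with `b` and congruent are equal
  have hsame : ∀ a c : ↥M, (a : G) ^ 4 = 1 → (c : G) ^ 4 = 1 → pr a = pr c → a = c := by
    intro a c ha hc e
    have hd : (c : G)⁻¹ * a ∈ zpowers b :=
      (hone (c⁻¹ * a)).1 (by rw [map_mul, map_inv, e, inv_mul_cancel])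
    obtain ⟨i, hi⟩ := mem_zpowers_iff.1 hd
    have hcb : Commute (c : G) b := mem_cent_zpowers.1 c.2
    have ea : (a : G) = c * b ^ i := by rw [hi, mul_inv_cancel_left]
    have h4 : (b ^ i) ^ 4 = 1 := by rw [ea, (hcb.zpow_right i).mul_pow, hc, one_mul] at ha; exact ha
    exact Subtype.ext (by rw [ea, eq_one_of_four E.odd (hBp _ (zpow_mem (mem_zpowers b) i)) h4, mul_one])
  have hz4 : z ^ 4 = 1 := E.pow_four D.core.mem
  have hzb : orderOf zb = 2 := by
    refine orderOf_eq_prime ?_ fun h => ?_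
    · rw [← map_pow, ← map_one pr]
      exact congrArg pr (Subtype.ext (by rw [coe_pow, pow_two]; exact D.zz))
    · exact D.z_ne (congrArg Subtype.val (hsame ⟨z, hzM⟩ 1 hz4 (by simp) (h.trans (map_one pr).symm)))
  -- the joint centralizer
  have hDM : ∀ c : ↥(J0 z b), (c : G) ∈ M := fun c => mem_cent_zpowers.2 (mem_centralizer_singleton_iff.1 c.2.2)
  let f : ↥(J0 z b) →* ↥(centralizer ({zb} : Set (↥M ⧸ N))) :=
    (pr.comp (Subgroup.inclusion (fun c hc => hDM ⟨c, hc⟩ : J0 z b ≤ M))).codRestrict _ fun c =>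
      mem_centralizer_singleton_iff.2 (by
        show pr ⟨c, hDM c⟩ * pr ⟨z, hzM⟩ = pr ⟨z, hzM⟩ * pr ⟨c, hDM c⟩
        rw [← map_mul, ← map_mul]
        exact congrArg pr (Subtype.ext (mem_centralizer_singleton_iff.1 c.2.1)))
  have hfval : ∀ c : ↥(J0 z b), (f c : ↥M ⧸ N) = pr ⟨c, hDM c⟩ := fun c => rfl
  have hf : Function.Surjective f := by
    rintro ⟨m, hm⟩
    obtain ⟨c, rfl⟩ := QuotientGroup.mk'_surjective N m
    have e : pr c * zb = zb * pr c := mem_centralizer_singleton_iff.1 hm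
    have h4 : ((c : G) * z * (c : G)⁻¹) ^ 4 = 1 := by rw [conj_pow, hz4, mul_one, mul_inv_cancel]
    have h1 := hsame (c * ⟨z, hzM⟩ * c⁻¹) ⟨z, hzM⟩ h4 hz4 (by
      rw [map_mul, map_mul, map_inv]; exact mul_inv_eq_iff_eq_mul.2 e)
    refine ⟨⟨c, mem_centralizer_singleton_iff.2 (mul_inv_eq_iff_eq_mul.1 (congrArg Subtype.val h1)),
      mem_centralizer_singleton_iff.2 (mem_cent_zpowers.1 c.2)⟩, rfl⟩
  have hfker : f.ker ≤ (A.phi E).ker := by
    intro c hc
    have h1 : pr ⟨c, hDM c⟩ = 1 := congrArg Subtype.val (MonoidHom.mem_ker.1 hc)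
    obtain ⟨i, hi⟩ := mem_zpowers_iff.1 ((hone _).1 h1)
    refine MonoidHom.mem_ker.2 ((A.phi_eq_one_iff E c).2 ⟨1, one_mem _, (i % p).toNat, ?_⟩)
    rw [one_mul, ← zpow_natCast, Int.toNat_of_nonneg (Int.emod_nonneg _ (by simp [E.prime.ne_zero])),
      show ((p : ℕ) : ℤ) = ((orderOf b : ℕ) : ℤ) by rw [E.ord], zpow_mod_orderOf]
    exact hi.symm
  let ψ : ↥(centralizer ({zb} : Set (↥M ⧸ N))) →* T :=
    f.liftOfSurjective hf ⟨(A.phi E), hfker⟩
  have hψ : ∀ c, ψ (f c) = (A.phi E) c := fun c =>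
    f.liftOfRightInverse_comp_apply _ (Function.rightInverse_surjInv hf) ⟨(A.phi E), hfker⟩ c
  have hψs : Function.Surjective ψ := fun t => by
    obtain ⟨c, rfl⟩ := A.phi_surjective E t
    exact ⟨f c, hψ c⟩
  -- the fixed points
  have hfixD : ∀ q ∈ fixed Q b, q ∈ J0 z b := fun q hq => ⟨D.core.le hq.1, hq.2⟩
  have hker : ∀ x, x ∈ ψ.ker ↔ ∃ c : ↥(J0 z b), (c : G) ∈ Q ∧ f c = x := by
    intro x
    obtain ⟨c, rfl⟩ := hf x
    rw [MonoidHom.mem_ker, hψ]
    constructor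
    · intro h
      obtain ⟨q, hq, k, e⟩ := (A.phi_eq_one_iff E c).1 h
      refine ⟨⟨q, hfixD q hq⟩, hq.1, Subtype.ext ?_⟩
      rw [hfval, hfval]
      refine QuotientGroup.eq.2 (mem_subgroupOf.2 ?_)
      show q⁻¹ * (c : G) ∈ zpowers b
      rw [e, inv_mul_cancel_left]
      exact pow_mem (mem_zpowers b) k
    · rintro ⟨d, hd, e⟩
      rw [← hψ, ← e, hψ]
      exact (A.phi_eq_one_iff E d).2 ⟨d, ⟨hd, d.2.2⟩, 0, by simp⟩
  set Rb := ψ.ker with hRb
  have hinj : ∀ c d : ↥(J0 z b), (c : G) ∈ Q → (d : G) ∈ Q → f c = f d → c = d := fun c d hc hd e => by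
    have := hsame ⟨c, hDM c⟩ ⟨d, hDM d⟩ (E.pow_four hc) (E.pow_four hd) (congrArg Subtype.val e)
    exact Subtype.ext (congrArg (fun m : ↥M => (m : G)) this)
  have hcard : Nat.card Rb = 2 ^ (2 * w + 1) := by
    rw [← hd, ← E.card_fixed]
    refine (Nat.card_congr (Equiv.ofBijective
      (fun q : fixed Q b => (⟨f ⟨q, hfixD q q.2⟩, (hker _).2 ⟨_, q.2.1, rfl⟩⟩ : Rb)) ⟨?_, ?_⟩)).symm
    · intro p q e
      exact Subtype.ext (congrArg (fun c : ↥(J0 z b) => (c : G)) (hinj _ _ p.2.1 q.2.1 (congrArg Subtype.val e)))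
    · rintro ⟨x, hx⟩
      obtain ⟨c, hc, rfl⟩ := (hker x).1 hx
      exact ⟨⟨c, hc, c.2.2⟩, rfl⟩
  have h2 : IsPGroup 2 Rb := IsPGroup.of_card (n := 2 * w + 1) hcard
  -- the centre
  let zz : ↥(centralizer ({zb} : Set (↥M ⧸ N))) := ⟨zb, mem_centralizer_singleton_iff.2 rfl⟩
  have hzf : f ⟨z, hfixD z E.z_fixed⟩ = zz := rfl
  have hzcases : ∀ c : ↥(J0 z b), ((c : G) = 1 ∨ (c : G) = z) → f c ∈ zpowers zz := by
    rintro c (h | h)
    · rw [show c = 1 from Subtype.ext h, map_one]; exact one_mem _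
    · rw [show c = ⟨z, hfixD z E.z_fixed⟩ from Subtype.ext h, hzf]; exact mem_zpowers _
  have hcomm : ∀ c d : ↥(J0 z b), (c : G) ∈ Q → (d : G) ∈ Q → f c * f d = f d * f c →
      (c : G) * d = d * c := fun c d hc hd e => by
    rw [← map_mul, ← map_mul] at e
    exact congrArg Subtype.val (hinj (c * d) (d * c) (Q.mul_mem hc hd) (Q.mul_mem hd hc) e)
  have hcen : ∀ c : ↥(J0 z b), (c : G) ∈ Q → (∀ e ∈ Rb, e * f c = f c * e) → f c ∈ zpowers zz := fun c hc h => by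
    refine hzcases c (E.fixed_center ⟨hc, c.2.2⟩ fun r hr => ?_)
    exact hcomm ⟨r, hfixD r hr⟩ c hr.1 hc (h _ ((hker _).2 ⟨_, hr.1, rfl⟩))
  have hext : Cfsg.IsExtraspecial 2 Rb := by
    refine CfsgLib.SympPairs.isExtraspecial_of_data (z := zz) Rb h2 ⟨?_, ?_, ?_, ?_, ?_⟩ ?_ ?_ ?_
    · exact Subtype.ext (by rw [coe_pow, ← hzb]; exact pow_orderOf_eq_one zb)
    · intro h
      have : zb = 1 := congrArg Subtype.val h
      rw [this, orderOf_one] at hzb; omega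
    · exact (hker _).2 ⟨_, D.core.mem, hzf⟩
    · exact fun g => Subtype.ext (mem_centralizer_singleton_iff.1 g.2)
    · intro x hx y hy
      obtain ⟨c, hc, rfl⟩ := (hker x).1 hx
      obtain ⟨d, hd, rfl⟩ := (hker y).1 hy
      rw [← map_commutatorElement f]
      refine hzcases _ ?_
      rw [commutatorElement_def]
      exact D.core.comm_eq c hc d hd
    · intro x hx
      obtain ⟨c, hc, rfl⟩ := (hker x).1 hx
      rw [← map_pow]
      refine hzcases _ ?_
      rw [coe_pow, pow_two]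
      exact D.core.sq_eq c hc
    · intro x hx h
      obtain ⟨c, hc, rfl⟩ := (hker x).1 hx
      exact hcen c hc fun e he => mem_centralizer_iff.1 h e he
    · by_contra h
      push Not at h
      obtain ⟨q, hqR⟩ := D.repr S.std
      have hq : q ∈ fixed Q b := (E.mem_fixed_iff hqR).2 (by rw [S.std_fix]; exact Cong.refl _)
      have h64 := S.std_norm
      obtain ⟨n1, n2⟩ := D.noncentral hqR (by omega)
      refine (E.fixed_center hq fun r hr => ?_).elim n1 n2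
      exact hcomm ⟨r, hfixD r hr⟩ ⟨_, hfixD _ hq⟩ hr.1 hq.1 (commutatorElement_eq_one_iff_mul_comm.1
        (h _ ((hker _).2 ⟨_, hr.1, rfl⟩) _ ((hker _).2 ⟨_, hq.1, rfl⟩)))
  have hC : centralizer (Rb : Set ↥(centralizer ({zb} : Set (↥M ⧸ N)))) ≤ Rb := by
    intro x hx
    obtain ⟨c, rfl⟩ := hf x
    rw [hRb, MonoidHom.mem_ker, hψ]
    refine A.phi_of_centralizes E c fun r hr => ?_
    have e := mem_centralizer_iff.1 hx _ ((hker _).2 ⟨⟨r, hfixD r hr⟩, hr.1, rfl⟩)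
    rw [← map_mul, ← map_mul] at e
    have hcq : (c : G) * r * (c : G)⁻¹ ∈ Q := D.core.norm c (mem_centralizer_singleton_iff.1 c.2.1) r hr.1
    have hs := hinj (c * ⟨r, hfixD r hr⟩ * c⁻¹) ⟨r, hfixD r hr⟩ hcq hr.1 (by
      rw [map_mul, ← e, map_mul, map_inv, mul_inv_cancel_right])
    exact (mul_inv_eq_iff_eq_mul.1 (congrArg Subtype.val hs)).symm
  have hmax : ∀ U : Subgroup ↥(centralizer ({zb} : Set (↥M ⧸ N))), U.Normal → IsPGroup 2 U → U ≤ Rb := by
    intro U hU hU2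
    haveI : (U.map ψ).Normal := hU.map ψ hψs
    have := A.nonormal (U.map ψ) inferInstance (hU2.map ψ)
    exact (map_eq_bot_iff U).1 this
  refine ⟨zb, Rb, inferInstance, ⟨hzb, Fi22Model.generalizedFitting_eq_of_selfCentralizing Rb h2 hC hmax, hext,
    hcard, ?_⟩, ⟨QuotientGroup.quotientKerEquivOfSurjective ψ hψs⟩⟩
  obtain ⟨q, hqR⟩ := D.repr S.std
  obtain ⟨hne, c, hcb, hc⟩ := E.conj_in_centralizer hqR S.std_fix S.std_norm
  have hqf : q ∈ fixed Q b := (E.mem_fixed_iff hqR).2 (by rw [S.std_fix]; exact Cong.refl _)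
  let cm : ↥M := ⟨c, mem_cent_zpowers.2 hcb⟩
  have he : pr cm * zb * (pr cm)⁻¹ = (f ⟨_, hfixD _ hqf⟩ : ↥M ⧸ N) := by
    rw [hfval, ← map_inv, ← map_mul, ← map_mul]
    exact congrArg pr (Subtype.ext hc)
  refine ⟨pr cm, ⟨?_, ?_⟩, fun h => ?_⟩
  · rw [he]; exact (f _).2
  · exact (hker _).2 ⟨⟨_, hfixD _ hqf⟩, hqf.1, Subtype.ext he.symm⟩
  · have := hinj ⟨_, hfixD _ hqf⟩ ⟨z, hfixD z E.z_fixed⟩ hqf.1 D.core.mem
      (Subtype.ext (he.symm.trans h))
    exact hne (congrArg Subtype.val this)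

end

end CfsgLib.Spor.MonsterType.Prime
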