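import Cfsg.Agent.Lib.Spor.MonsterType.Seven.Cross
import Cfsg.Agent.Lib.Spor.MonsterType.Prime.Quot

/-!
# Monomial automorphisms against a permutation automorphism, and the action on classes
-/

set_option autoImplicit false

namespace CfsgLib.Spor.MonsterType.Prime

open Subgroup CfsgLib.Spor CfsgLib.Spor.Leech CfsgLib.Spor.MonsterType.Seven
open Cfsg (leechLattice Co0 sqNorm GolayPt M24 supports golayCode signedPerm dotInt)

noncomputable section

variable {ρ : Equiv.Perm GolayPt} (hρ : ρ ∈ M24)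

theorem prm_apply (v : leechLattice) (p : GolayPt) :
    ((prmAut hρ • v : leechLattice) : GolayPt → ℤ) (ρ p) = (v : GolayPt → ℤ) p := by
  rw [prmAut_smul, Equiv.symm_apply_apply]

theorem prm_fixed_iff (v : leechLattice) :
    prmAut hρ • v = v ↔ ∀ p, (v : GolayPt → ℤ) (ρ p) = (v : GolayPt → ℤ) p := by
  refine ⟨fun h p => by conv_lhs => rw [← h, prm_apply], fun h => Subtype.ext (funext fun p => ?_)⟩
  obtain ⟨q, rfl⟩ := ρ.surjective p
  rw [prm_apply, h]

theorem prm_single {w : leechLattice} {a : GolayPt} {x : ℤ} (h : (w : GolayPt → ℤ) = Pi.single a x) :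
    ((prmAut hρ • w : leechLattice) : GolayPt → ℤ) = Pi.single (ρ a) x := by
  funext p
  obtain ⟨q, rfl⟩ := ρ.surjective p
  rw [prm_apply, h]
  simp only [Pi.single_apply, ρ.injective.eq_iff]

theorem prm_eight (i : GolayPt) : prmAut hρ • eight i = eight (ρ i) := prmHom_eight ⟨ρ, hρ⟩ i

/-- A monomial automorphism commutes with the permutation iff both its parts do. -/
theorem mono_comm_prm {τ : Equiv.Perm GolayPt} (hτ : τ ∈ M24) {c : Finset GolayPt}
    (hc : c ∈ supports (golayCode : Set (GolayPt → ZMod 2))) :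
    monoAut hτ hc ∈ centralizer ({prmAut hρ} : Set Co0) ↔ τ * ρ = ρ * τ ∧ ∀ p, (ρ p ∈ c ↔ p ∈ c) := by
  have hne : ∀ p : GolayPt, (if p ∈ c then (-8 : ℤ) else 8) ≠ 0 := fun p => by split_ifs <;> norm_num
  rw [mem_centralizer_singleton_iff]
  constructor
  · intro h
    have key : ∀ i, τ (ρ i) = ρ (τ i) ∧ (τ (ρ i) ∈ c ↔ τ i ∈ c) := fun i => by
      have e := congrArg (fun g : Co0 => ((g • eight i : leechLattice) : GolayPt → ℤ)) h
      simp only [mul_smul, prm_eight hρ, mono_eight, prm_single hρ (mono_eight hτ hc i)] at e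
      obtain ⟨e1, e2⟩ := single_inj (hne _) e
      refine ⟨e1, ?_⟩
      split_ifs at e2 <;> simp_all
    refine ⟨Equiv.ext fun i => (key i).1, fun p => ?_⟩
    obtain ⟨i, rfl⟩ := τ.surjective p
    rw [← (key i).1]; exact (key i).2
  · rintro ⟨h1, h2⟩
    refine co0_ext fun i => Subtype.ext ?_
    rw [mul_smul, mul_smul, prm_eight, mono_eight, prm_single hρ (mono_eight hτ hc i),
      show τ (ρ i) = ρ (τ i) from Equiv.ext_iff.1 h1 i]
    simp only [h2]

theorem prmAut_mem_iff {τ : Equiv.Perm GolayPt} (hτ : τ ∈ M24) :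
    prmAut hτ ∈ centralizer ({prmAut hρ} : Set Co0) ↔ τ * ρ = ρ * τ := by
  refine (mono_comm_prm hρ hτ Cfsg.Spor.empty_mem_supports_golayCode).trans ?_
  simp

theorem sgnAut_mem_iff {c : Finset GolayPt} (hc : c ∈ supports (golayCode : Set (GolayPt → ZMod 2))) :
    sgnAut hc ∈ centralizer ({prmAut hρ} : Set Co0) ↔ ∀ p, (ρ p ∈ c ↔ p ∈ c) := by
  rw [sgnAut, mono_comm_prm hρ]
  simp

/-! ### The action of the centralizer on the classes -/

variable {p d : ℕ} (S : Std p d)

theorem Std.fixed_smul {x : Co0} (hx : x ∈ S.cent) {v : leechLattice} (hv : S.P • v = v) :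
    S.P • (x • v) = x • v := by
  rw [← mul_smul, ← mem_centralizer_singleton_iff.1 hx, mul_smul, hv]

/-- The action on classes. -/
def Std.actc (x : ↥S.cent) : (Fin d → ZMod 2) →+ (Fin d → ZMod 2) :=
  AddMonoidHom.mk' (fun a => S.cls ((x : Co0) • S.rep a)) fun a c => by
    have h : Cong (S.rep (a + c)) (S.rep a + S.rep c) := by
      have hf : S.P • (S.rep a + S.rep c) = S.rep a + S.rep c := by rw [co0_add, S.rep_fixed, S.rep_fixed]
      have := S.cong_rep hf
      rwa [map_add, S.cls_rep, S.cls_rep] at this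
    rw [S.cls_cong (h.smul (x : Co0)), co0_add, map_add]

theorem Std.actc_cls (x : ↥S.cent) {v : leechLattice} (hv : S.P • v = v) :
    S.actc x (S.cls v) = S.cls ((x : Co0) • v) :=
  S.cls_cong ((S.cong_rep hv).smul (x : Co0))

theorem Std.actc_mul (x y : ↥S.cent) (a : Fin d → ZMod 2) : S.actc (x * y) a = S.actc x (S.actc y a) := by
  show S.cls ((x * y : ↥S.cent) • S.rep a) = S.actc x (S.cls ((y : Co0) • S.rep a))
  rw [S.actc_cls x (S.fixed_smul y.2 (S.rep_fixed a)), ← mul_smul]
  rfl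

theorem Std.actc_one (a : Fin d → ZMod 2) : S.actc 1 a = a := by
  show S.cls ((1 : Co0) • S.rep a) = a
  rw [one_smul, S.cls_rep]

theorem Std.actc_inj (x : ↥S.cent) : Function.Injective (S.actc x) := fun a c h => by
  have := congrArg (S.actc x⁻¹) h
  rwa [← S.actc_mul, ← S.actc_mul, inv_mul_cancel, S.actc_one, S.actc_one] at this

theorem Std.actc_eq_self {x : ↥S.cent} (h : ∀ v : leechLattice, S.P • v = v → Cong v ((x : Co0) • v))
    (a : Fin d → ZMod 2) : S.actc x a = a :=
  (S.cls_cong (h _ (S.rep_fixed a))).symm.trans (S.cls_rep a)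

/-- The class with the binary digits of a number. -/
def ofIdx (d n : ℕ) : Fin d → ZMod 2 := fun j => if n.testBit j then 1 else 0

/-- The number whose binary digits are a class. -/
def toIdx {d : ℕ} (a : Fin d → ZMod 2) : ℕ := ∑ j : Fin d, if a j = 1 then 2 ^ (j : ℕ) else 0

theorem ofIdx_xor (d a c : ℕ) : ofIdx d (a ^^^ c) = ofIdx d a + ofIdx d c := funext fun j => by
  simp only [ofIdx, Pi.add_apply, Nat.testBit_xor]
  cases a.testBit j <;> cases c.testBit j <;> decide

theorem ofIdx_zero (d : ℕ) : ofIdx d 0 = 0 := funext fun j => by simp [ofIdx]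

/-- The exclusive or of the selected columns. -/
def xorCols : List ℕ → ℕ → ℕ
  | [], _ => 0
  | c :: l, n => (if n % 2 = 1 then c else 0) ^^^ xorCols l (n / 2)

theorem ofIdx_xorCols : ∀ {k d : ℕ} (cols : List ℕ), cols.length = k → ∀ n, ofIdx d (xorCols cols n) =
    ∑ j : Fin k, ((ofIdx k n) j).val • ofIdx d (cols.getD j 0)
  | 0, d, [], _, n => by simp [xorCols, ofIdx_zero]
  | k + 1, d, c :: l, hl, n => by
    rw [xorCols, ofIdx_xor, ofIdx_xorCols l (Nat.succ.inj hl) (n / 2), Fin.sum_univ_succ]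
    congr 1
    · by_cases h : n % 2 = 1 <;> simp [h, ofIdx, Nat.testBit_zero, ofIdx_zero, ZMod.val_one]
    · refine Finset.sum_congr rfl fun j _ => ?_
      simp [ofIdx, Nat.testBit_succ]

/-- The action from the images of the basis. -/
theorem Std.actc_idx (x : ↥S.cent) {cols : List ℕ} (hl : cols.length = d)
    (h : ∀ j : Fin d, S.cls ((x : Co0) • S.B j) = ofIdx d (cols.getD j 0)) (n : ℕ) :
    S.actc x (ofIdx d n) = ofIdx d (xorCols cols n) := by
  show S.cls (Std.smulHom (x : Co0) (S.rep (ofIdx d n))) = _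
  rw [ofIdx_xorCols cols hl n, Std.rep, map_sum, map_sum]
  refine Finset.sum_congr rfl fun j _ => ?_
  rw [map_zsmul, map_zsmul, natCast_zsmul]
  exact congrArg _ (h j)

end

end CfsgLib.Spor.MonsterType.Prime
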