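import Cfsg.Agent.Lib.Spor.MonsterType.Seven.Classes
import Cfsg.Prelude.Def_MonsterType

/-!
# The lattice fixed by an automorphism of odd prime order, modulo two, in dual bases
-/

set_option autoImplicit false

namespace CfsgLib.Spor.MonsterType.Prime

open CfsgLib.Spor CfsgLib.Spor.Leech CfsgLib.Spor.MonsterType.Seven
open Cfsg (leechLattice Co0 sqNorm GolayPt dotInt)

noncomputable section

/-- The inner product with a fixed vector. -/
def dotHom (w : GolayPt → ℤ) : (GolayPt → ℤ) →+ ℤ :=
  AddMonoidHom.mk' (fun x => dotInt x w) fun x y => Cfsg.dotInt_add_left x y w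

theorem dotHom_apply (w x : GolayPt → ℤ) : dotHom w x = dotInt x w := rfl

/-- The indicator of an orbit. -/
def indVec {d : ℕ} (grp : GolayPt → Fin d) (g : Fin d) : GolayPt → ℤ := fun q => if grp q = g then 1 else 0

/-- The expansion from a table: vectors constant on the parts are combinations of the basis. -/
theorem expand_of_table {d : ℕ} (grp : GolayPt → Fin d) (pt : Fin d → GolayPt) {B W : Fin d → leechLattice}
    (h : ∀ g q, ∑ j, dotInt (indVec grp g) (W j : GolayPt → ℤ) * (B j : GolayPt → ℤ) q =
      if grp q = g then 8 else 0)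
    {v : leechLattice} (hv : ∀ q, (v : GolayPt → ℤ) (pt (grp q)) = (v : GolayPt → ℤ) q) :
    v = ∑ j, (dotInt (v : GolayPt → ℤ) (W j : GolayPt → ℤ) / 8) • B j := by
  refine Subtype.ext (funext fun q => ?_)
  have hsum : (v : GolayPt → ℤ) = ∑ g, (v : GolayPt → ℤ) (pt g) • indVec grp g := funext fun q => by
    simp only [Finset.sum_apply, Pi.smul_apply, indVec, smul_eq_mul, mul_ite, mul_one, mul_zero, Finset.sum_ite_eq,
      Finset.mem_univ, if_true, hv]
  have hdot : ∀ j, dotInt (v : GolayPt → ℤ) (W j : GolayPt → ℤ) =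
      ∑ g, (v : GolayPt → ℤ) (pt g) * dotInt (indVec grp g) (W j : GolayPt → ℤ) := fun j => by
    conv_lhs => rw [← dotHom_apply, hsum, map_sum]
    simp only [map_zsmul, dotHom_apply, smul_eq_mul]
  have key : 8 * ∑ j, (dotInt (v : GolayPt → ℤ) (W j : GolayPt → ℤ) / 8) * (B j : GolayPt → ℤ) q =
      8 * (v : GolayPt → ℤ) q := by
    rw [Finset.mul_sum]
    have h8 : ∀ j, 8 * (dotInt (v : GolayPt → ℤ) (W j : GolayPt → ℤ) / 8) =
        dotInt (v : GolayPt → ℤ) (W j : GolayPt → ℤ) := fun j => Int.mul_ediv_cancel' (dot_dvd v.2 (W j).2)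
    simp only [← mul_assoc, h8]
    simp only [hdot, Finset.sum_mul]
    rw [Finset.sum_comm]
    simp only [mul_assoc, ← Finset.mul_sum, h, mul_ite, mul_zero, Finset.sum_ite_eq, Finset.mem_univ, if_true,
      hv]
    ring
  simp only [AddSubgroup.val_finsetSum, Finset.sum_apply, AddSubgroup.coe_zsmul, Pi.smul_apply, smul_eq_mul]
  omega

/-- An automorphism of odd prime order with dual bases for its fixed lattice and a long fixed vector. -/
structure Std (p d : ℕ) where
  P : Co0
  hpow : P ^ p = 1
  B : Fin d → leechLattice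
  W : Fin d → leechLattice
  fixB : ∀ i, P • B i = B i
  dual : ∀ i j, dotInt (B i : GolayPt → ℤ) (W j : GolayPt → ℤ) = if i = j then 8 else 0
  expand : ∀ v : leechLattice, P • v = v →
    v = ∑ j, (dotInt (v : GolayPt → ℤ) (W j : GolayPt → ℤ) / 8) • B j
  std : leechLattice
  std_fix : P • std = std
  std_norm : sqNorm (std : GolayPt → ℤ) = 64

namespace Std

variable {p d : ℕ} (S : Std p d)

/-- The coordinates. -/
def coord (v : leechLattice) (j : Fin d) : ℤ := dotInt (v : GolayPt → ℤ) (S.W j : GolayPt → ℤ) / 8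

theorem dot_coord (v : leechLattice) (j : Fin d) :
    dotInt (v : GolayPt → ℤ) (S.W j : GolayPt → ℤ) = 8 * S.coord v j := by
  obtain ⟨t, ht⟩ := dot_dvd v.2 (S.W j).2
  rw [coord, ht]; omega

theorem coord_add (v w : leechLattice) (j : Fin d) : S.coord (v + w) j = S.coord v j + S.coord w j := by
  have h := S.dot_coord (v + w) j
  rw [AddSubgroup.coe_add, Cfsg.dotInt_add_left, S.dot_coord v, S.dot_coord w] at h
  omega

/-- The class of a vector modulo two, in coordinates. -/
def cls : leechLattice →+ (Fin d → ZMod 2) :=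
  AddMonoidHom.mk' (fun v j => (S.coord v j : ZMod 2)) fun v w => funext fun j => by
    simp [S.coord_add]

theorem cls_apply (v : leechLattice) (j : Fin d) : S.cls v j = (S.coord v j : ZMod 2) := rfl

theorem cls_cong {v w : leechLattice} (h : Cong v w) : S.cls v = S.cls w := by
  obtain ⟨u, rfl⟩ := h
  funext j
  simp only [map_add, Pi.add_apply]
  generalize S.cls u j = x
  revert x
  generalize S.cls v j = y
  revert y
  decide

theorem coord_sum (k : Fin d → ℤ) (j : Fin d) : S.coord (∑ i, k i • S.B i) j = k j := by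
  have h := S.dot_coord (∑ i, k i • S.B i) j
  rw [← dotHom_apply, AddSubgroup.val_finsetSum, map_sum] at h
  simp only [AddSubgroup.coe_zsmul, map_zsmul, dotHom_apply, S.dual, smul_eq_mul, mul_ite, mul_zero,
    Finset.sum_ite_eq', Finset.mem_univ, if_true] at h
  omega

/-- A representative of a class. -/
def rep (a : Fin d → ZMod 2) : leechLattice := ∑ i, ((a i).val : ℤ) • S.B i

/-- The action of an automorphism as an additive map. -/
def smulHom (g : Co0) : leechLattice →+ leechLattice := AddMonoidHom.mk' (fun v => g • v) (co0_add g)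

theorem rep_fixed (a : Fin d → ZMod 2) : S.P • S.rep a = S.rep a := by
  show smulHom S.P (S.rep a) = _
  rw [rep, map_sum]
  refine Finset.sum_congr rfl fun i _ => ?_
  rw [map_zsmul]
  exact congrArg _ (S.fixB i)

theorem cls_rep (a : Fin d → ZMod 2) : S.cls (S.rep a) = a :=
  funext fun j => by rw [S.cls_apply, rep, S.coord_sum]; simp

theorem rep_inj {a c : Fin d → ZMod 2} (h : Cong (S.rep a) (S.rep c)) : a = c := by
  rw [← S.cls_rep a, S.cls_cong h, S.cls_rep]

theorem cong_rep {v : leechLattice} (hv : S.P • v = v) : Cong (S.rep (S.cls v)) v := by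
  refine ⟨∑ j, (S.coord v j / 2) • S.B j, ?_⟩
  conv_lhs => rw [S.expand v hv]
  simp only [rep, ← Finset.sum_add_distrib, ← add_zsmul, S.cls_apply]
  refine Finset.sum_congr rfl fun j _ => ?_
  show S.coord v j • S.B j = _
  congr 1
  rw [ZMod.val_intCast]
  omega

theorem cls_eq_iff {v w : leechLattice} (hv : S.P • v = v) (hw : S.P • w = w) : S.cls v = S.cls w ↔ Cong v w := by
  refine ⟨fun h => ?_, S.cls_cong⟩
  have h' := S.cong_rep hw
  rw [← h] at h'
  exact (S.cong_rep hv).symm.trans h'

theorem cls_eq_zero {v : leechLattice} (hv : S.P • v = v) : S.cls v = 0 ↔ Cong 0 v := by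
  have h0 : S.P • (0 : leechLattice) = 0 := map_zero (smulHom S.P)
  rw [← S.cls_eq_iff h0 hv, map_zero, eq_comm]

/-- A class fixed modulo two contains a fixed vector. -/
theorem exists_rep (hp : Odd p) {v : leechLattice} (h : Cong v (S.P • v)) : ∃ a, Cong v (S.rep a) := by
  have hk : ∀ k : ℕ, Cong v (S.P ^ k • v) := by
    intro k
    induction k with
    | zero => rw [pow_zero, one_smul]; exact Cong.refl v
    | succ k ih => rw [pow_succ', mul_smul]; exact h.trans (ih.smul S.P)
  set s := ∑ k ∈ Finset.range p, S.P ^ k • v with hs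
  have hfix : S.P • s = s := by
    show smulHom S.P s = s
    rw [hs, map_sum]
    show ∑ k ∈ Finset.range p, S.P • (S.P ^ k • v) = _
    simp only [← mul_smul, ← pow_succ']
    have := (Finset.sum_range_succ' (fun k => S.P ^ k • v) p).symm.trans
      (Finset.sum_range_succ (fun k => S.P ^ k • v) p)
    simpa [S.hpow] using this
  have hsum : ∀ n, Cong (n • v) (∑ k ∈ Finset.range n, S.P ^ k • v) := by
    intro n
    induction n with
    | zero => rw [zero_smul, Finset.range_zero, Finset.sum_empty]; exact Cong.refl 0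
    | succ n ih => rw [succ_nsmul, Finset.sum_range_succ]; exact ih.add (hk n)
  obtain ⟨m, hm⟩ := hp
  have hc : Cong v s := by
    refine Cong.trans ⟨m • v, ?_⟩ (hsum p)
    rw [hm, add_nsmul, two_mul, add_nsmul, one_nsmul]; abel
  exact ⟨S.cls s, hc.trans (S.cong_rep hfix).symm⟩

end Std

end

end CfsgLib.Spor.MonsterType.Prime
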