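import Cfsg.Agent.Lib.Spor.MonsterType.Prime.Quot

/-!
# A subgroup of odd prime order in the joint centralizer of two conjugates, in standard position
-/

set_option autoImplicit false

namespace CfsgLib.Spor.MonsterType.Prime

open Subgroup CfsgLib.Spor CfsgLib.Spor.Leech CfsgLib.Spor.MonsterType.Seven
open Cfsg (leechLattice Co0 sqNorm GolayPt M24)

noncomputable section

variable {G : Type*} [Group G] [Finite G] {z : G} {Q : Subgroup G} {R : leechLattice → G → Prop}
  {π : ↥(centralizer ({z} : Set G)) →* Cfsg.Spor.Co1}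

omit [Finite G] in
theorem centralizer_pair (z s : G) :
    centralizer ({z, s} : Set G) = centralizer ({z} : Set G) ⊓ centralizer ({s} : Set G) := by
  ext c
  simp only [mem_inf, mem_centralizer_iff, Set.mem_insert_iff, Set.mem_singleton_iff, forall_eq_or_imp, forall_eq]

theorem fact_two_pow (p a : ℕ) [Fact p.Prime] (hp : 2 < p) : (2 ^ a).factorization p = 0 := by
  rw [Nat.factorization_pow, Finsupp.smul_apply, Nat.factorization_eq_zero_of_not_dvd, smul_zero]
  intro h
  have := Nat.le_of_dvd two_pos h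
  omega

/-- The image of the joint centralizer, with the kernel a 2-group. -/
theorem exists_cross (D : Data z Q R π) {g : G} (hgQ : g * z * g⁻¹ ∈ Q) (hne : g * z * g⁻¹ ≠ z) :
    ∃ h : Co0,
      ((centralizer ({z, g * z * g⁻¹} : Set G)).subgroupOf (centralizer ({z} : Set G))).map π = (crossMap h).range ∧
      ∀ (p : ℕ), p.Prime → 2 < p → (Nat.card ↥(centralizer ({z, g * z * g⁻¹} : Set G))).factorization p =
        (4096 * 244823040 : ℕ).factorization p := by
  haveI : Fact (Nat.Prime 2) := ⟨Nat.prime_two⟩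
  obtain ⟨h, v, -, himg, -⟩ := D.image_conjugate hgQ hne
  rw [centralizer_pair]
  set X := centralizer ({z} : Set G) ⊓ centralizer ({g * z * g⁻¹} : Set G) with hX
  refine ⟨h, himg, fun p hp hp2 => ?_⟩
  haveI : Fact p.Prime := ⟨hp⟩
  let X' := X.subgroupOf (centralizer ({z} : Set G))
  have hk := (π.comp X'.subtype).ker.card_mul_index
  rw [index_ker, MonoidHom.range_comp, range_subtype, himg,
    Nat.card_congr (subgroupOfEquivOfLe (inf_le_left : X ≤ centralizer ({z} : Set G))).toEquiv] at hk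
  have hker2 : IsPGroup 2 (π.comp X'.subtype).ker := by
    intro x
    obtain ⟨n, hn⟩ := D.half.two ⟨_, (D.kerπ _).1 x.2⟩
    refine ⟨n, Subtype.ext (Subtype.ext (Subtype.ext ?_))⟩
    have := congrArg Subtype.val hn
    simpa using this
  obtain ⟨c, hc⟩ := hker2.exists_card_eq
  have hS : IsPGroup 2 signs := fun x => ⟨1, Subtype.ext (by rw [pow_one, coe_pow]; exact signs_sq x.2)⟩
  obtain ⟨a, ha⟩ := (hS.to_le (fun x hx => crossMap_ker h (MonoidHom.mem_ker.1 hx) :
    (crossMap h).ker ≤ signs)).exists_card_eq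
  have e : Nat.card (crossMap h).range * 2 ^ a = 4096 * 244823040 := by
    rw [← card_crossStab, ← (crossMap h).ker.card_mul_index, index_ker, ha, mul_comm]
  rw [← e, ← hk, hc, Nat.factorization_mul (by positivity) Nat.card_pos.ne', Nat.factorization_mul Nat.card_pos.ne'
    (by positivity), Finsupp.add_apply, Finsupp.add_apply, fact_two_pow p _ hp2, fact_two_pow p _ hp2, zero_add,
    add_zero]

/-- A generator of a subgroup of odd prime order, with its preimage in the cross stabiliser. -/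
theorem exists_preimage (D : Data z Q R π) {p : ℕ} [Fact p.Prime] (hp2 : 2 < p) {s : G} {h : Co0}
    (himg : ((centralizer ({z, s} : Set G)).subgroupOf (centralizer ({z} : Set G))).map π = (crossMap h).range)
    (B : Subgroup G) (hB : B ≤ centralizer ({z, s} : Set G)) (hBp : Nat.card B = p) :
    ∃ (b : G) (hb : b ∈ centralizer ({z} : Set G)) (y : crossStab), B = zpowers b ∧ orderOf b = p ∧
      y ^ p = 1 ∧ y ≠ 1 ∧ crossMap h y = π ⟨b, hb⟩ := by
  haveI : IsCyclic B := isCyclic_of_prime_card hBp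
  obtain ⟨b0, hb0⟩ := IsCyclic.exists_generator (α := B)
  have hBb : B = zpowers (b0 : G) := by
    refine le_antisymm (fun x hx => ?_) (zpowers_le.2 b0.2)
    obtain ⟨i, hi⟩ := mem_zpowers_iff.1 (hb0 ⟨x, hx⟩)
    exact ⟨i, by simpa using congrArg Subtype.val hi⟩
  have hord : orderOf (b0 : G) = p :=
    (Nat.card_zpowers _).symm.trans ((congrArg (fun H : Subgroup G => Nat.card H) hBb).symm.trans hBp)
  have hbX : (b0 : G) ∈ centralizer ({z, s} : Set G) := hB b0.2
  have hbz : (b0 : G) ∈ centralizer ({z} : Set G) := centralizer_le (by simp) hbX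
  let bz : ↥(centralizer ({z} : Set G)) := ⟨b0, hbz⟩
  obtain ⟨x, hx⟩ : π bz ∈ (crossMap h).range := himg ▸ mem_map_of_mem π (mem_subgroupOf.2 hbX)
  have hbp : bz ^ p = 1 := Subtype.ext (by
    show (b0 : G) ^ p = 1
    rw [← hord, pow_orderOf_eq_one])
  have hxc : (x : Co0) ^ p ∈ center Co0 := by
    have h7 : crossMap h (x ^ p) = 1 := by rw [map_pow, hx, ← map_pow, hbp, map_one]
    rw [crossMap_apply, QuotientGroup.eq_one_iff] at h7
    have := Subgroup.Normal.conj_mem inferInstance _ h7 h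
    simpa [mul_assoc] using this
  have hsgn : negAut ∈ crossStab := monoAut_preserves M24.one_mem Cfsg.Spor.univ_mem_supports_golayCode
  have hneg : crossMap h ⟨negAut, hsgn⟩ = 1 := by
    rw [crossMap_apply, QuotientGroup.eq_one_iff]
    exact Subgroup.Normal.conj_mem' inferInstance _ negAut_central h
  obtain ⟨m, hm⟩ := (Fact.out : p.Prime).odd_of_ne_two (by omega)
  obtain ⟨y, hyp, hy⟩ : ∃ y : crossStab, y ^ p = 1 ∧ crossMap h y = π bz := by
    rcases mem_center_iff_eq.1 hxc with e | e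
    · exact ⟨x, Subtype.ext (by rw [coe_pow, e]; rfl), hx⟩
    · refine ⟨x * ⟨negAut, hsgn⟩, Subtype.ext ?_, by rw [map_mul, hneg, mul_one, hx]⟩
      have h2 : negAut * negAut = 1 := sgnAut_sq Cfsg.Spor.univ_mem_supports_golayCode
      have h7 : negAut ^ p = negAut := by rw [hm, pow_succ, pow_mul, pow_two, h2, one_pow, one_mul]
      rw [coe_pow, coe_mul, (show Commute (x : Co0) negAut from mem_center_iff.1 negAut_central _).mul_pow, e, h7,
        h2]
      rfl
  refine ⟨b0, hbz, y, hBb, hord, hyp, fun e => ?_, hy⟩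
  rw [e, map_one] at hy
  have hQ := (D.kerπ bz).1 hy.symm
  obtain ⟨n, hn⟩ := D.half.two ⟨_, hQ⟩
  have h2 : orderOf (b0 : G) ∣ 2 ^ n := orderOf_dvd_of_pow_eq_one (congrArg Subtype.val hn)
  rw [hord] at h2
  have := (Nat.prime_dvd_prime_iff_eq Fact.out Nat.prime_two).1 ((Fact.out : p.Prime).dvd_of_dvd_pow h2)
  omega

/-- From a conjugation of the preimage to a power of the standard automorphism, standard position. -/
theorem exists_standard (D : Data z Q R π) (hw : ∃ g : G, g * z * g⁻¹ ∈ Q ∧ g * z * g⁻¹ ≠ z) {p d : ℕ}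
    [Fact p.Prime] (hp2 : 2 < p) {S : Std p d} {h : Co0} {b : G} (hb : b ∈ centralizer ({z} : Set G))
    (hord : orderOf b = p) {y : crossStab} (hy : crossMap h y = π ⟨b, hb⟩) {k : Co0} {i : ℕ} (hi : ¬p ∣ i)
    (hki : k * (y : Co0) * k⁻¹ = S.P ^ i) :
    ∃ (R' : leechLattice → G → Prop) (π' : ↥(centralizer ({z} : Set G)) →* Cfsg.Spor.Co1)
      (D' : Data z Q R' π') (b' : G), zpowers b = zpowers b' ∧ Elt D' S b' := by
  obtain ⟨j, -, hj⟩ := Nat.exists_mul_mod_eq_one_of_coprime
    ((Fact.out : p.Prime).coprime_iff_not_dvd.2 hi).symm (Fact.out : p.Prime).one_lt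
  have hgen : zpowers (b ^ j) = zpowers b := by
    refine le_antisymm (zpowers_le.2 (pow_mem (mem_zpowers _) j)) (zpowers_le.2 ⟨(i : ℤ), ?_⟩)
    show (b ^ j) ^ (i : ℤ) = _
    rw [zpow_natCast, ← pow_mul, mul_comm, ← pow_mod_orderOf, hord, hj, pow_one]
  refine ⟨_, _, D.twist (k * h), b ^ j, hgen.symm, ⟨pow_mem hb j, Fact.out, hp2, ?_, ?_, hw⟩⟩
  · exact (Nat.card_zpowers _).symm.trans ((congrArg (fun H : Subgroup G => Nat.card H) hgen).trans
      ((Nat.card_zpowers _).trans hord))
  · show (QuotientGroup.mk (k * h) : Cfsg.Spor.Co1) * π _ * (QuotientGroup.mk (k * h) : Cfsg.Spor.Co1)⁻¹ = _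
    have e : π ⟨b ^ j, pow_mem hb j⟩ = crossMap h (y ^ j) := by
      rw [map_pow, hy, ← map_pow]
      rfl
    rw [e, crossMap_apply, ← QuotientGroup.mk_inv, ← QuotientGroup.mk_mul, ← QuotientGroup.mk_mul]
    refine congrArg _ ?_
    rw [show k * h * (h⁻¹ * ((y ^ j : crossStab) : Co0) * h) * (k * h)⁻¹ = k * ((y ^ j : crossStab) : Co0) * k⁻¹ by
      group, coe_pow, ← conj_pow, hki, ← pow_mul]
    conv_lhs => rw [← Nat.mod_add_div (i * j) p, hj, pow_add, pow_mul, S.hpow, one_pow, mul_one, pow_one]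

end

end CfsgLib.Spor.MonsterType.Prime
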