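import Cfsg.Agent.Lib.Spor.MonsterType.Prime.Lattice
import Cfsg.Agent.Lib.Spor.MonsterType.Meet
import Cfsg.Agent.Lib.Spor.MonsterType.Seven.Fixed

/-!
# The fixed points on `Q` of an element of odd prime order, and their fusion in its centralizer
-/

set_option autoImplicit false

namespace CfsgLib.Spor.MonsterType.Prime

open Subgroup CfsgLib.Spor CfsgLib.Spor.Leech CfsgLib.Spor.MonsterType.Seven
open Cfsg (leechLattice Co0 sqNorm GolayPt)

noncomputable section

variable {G : Type*} [Group G] [Finite G] {z : G} {Q : Subgroup G} {R : leechLattice → G → Prop}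
  {π : ↥(centralizer ({z} : Set G)) →* Cfsg.Spor.Co1}

omit [Finite G] in
theorem commute_zpowers {b z : G} (h : b * z = z * b) : ∀ a ∈ zpowers b, a * z = z * a := fun a ha => by
  obtain ⟨k, rfl⟩ := mem_zpowers_iff.1 ha
  exact (show Commute b z from h).zpow_left k

/-- A set of 2-power size invariant under an element of odd prime order has a fixed point. -/
theorem exists_fixed_prime {p : ℕ} [Fact p.Prime] (hp2 : 2 < p) {b : G} (hb : b ^ p = 1) (S : Set G) (hS : ∀ x ∈ S, b * x * b⁻¹ ∈ S) {a : ℕ}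
    (hc : S.ncard = 2 ^ a) : ∃ x ∈ S, b * x = x * b := by
  classical
  haveI : Fintype S := Fintype.ofFinite S
  let f : S → S := fun x => ⟨b * x * b⁻¹, hS x x.2⟩
  have hf : ∀ (k : ℕ) (x : S), ((f^[k] x : S) : G) = b ^ k * x * (b ^ k)⁻¹ := by
    intro k
    induction k with
    | zero => intro x; simp
    | succ k ih =>
      intro x
      rw [Function.iterate_succ_apply']
      show b * (f^[k] x : G) * b⁻¹ = _
      rw [ih, pow_succ']
      group
  let e : Function.End S := f
  have he : e ^ p ^ 1 = 1 := funext fun x => Subtype.ext (by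
    rw [pow_one, show (e ^ p : Function.End S) = f^[p] from hom_coe_pow (fun g : Function.End S => (g : S → S)) rfl (fun _ _ => rfl) e p, hf, hb]
    show 1 * (x : G) * 1⁻¹ = x
    simp)
  have hmod := Equiv.Perm.card_fixedPoints_modEq (p := p) he
  have hcard : Fintype.card S = 2 ^ a := by rw [← Nat.card_eq_fintype_card, Nat.card_coe_set_eq, hc]
  have hpos : 0 < Fintype.card (Function.fixedPoints e) := by
    by_contra h0
    have h7 : p ∣ 2 ^ a := by
      rw [← hcard]
      exact (Nat.modEq_zero_iff_dvd).1 (by simpa [Nat.eq_zero_of_not_pos h0] using hmod)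
    have := (Nat.prime_dvd_prime_iff_eq Fact.out Nat.prime_two).1 ((Fact.out : p.Prime).dvd_of_dvd_pow h7)
    omega
  obtain ⟨⟨x, hx⟩⟩ := Fintype.card_pos_iff.1 hpos
  exact ⟨x, x.2, mul_inv_eq_iff_eq_mul.1 (congrArg Subtype.val (show f x = x from hx))⟩


/-- An element of odd prime order in standard position. -/
structure Elt (D : Data z Q R π) {p d : ℕ} (S : Std p d) (b : G) : Prop where
  mem : b ∈ centralizer ({z} : Set G)
  prime : p.Prime
  two_lt : 2 < p
  ord : orderOf b = p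
  img : π ⟨b, mem⟩ = QuotientGroup.mk S.P
  weak : ∃ g : G, g * z * g⁻¹ ∈ Q ∧ g * z * g⁻¹ ≠ z

variable {D : Data z Q R π} {p d : ℕ} {S : Std p d} {b : G}

namespace Elt

variable (E : Elt D S b)
include E

theorem odd : Odd p := E.prime.odd_of_ne_two (by have := E.two_lt; omega)

theorem bz : b * z = z * b := mem_centralizer_singleton_iff.1 E.mem

theorem powp : b ^ p = 1 := E.ord ▸ pow_orderOf_eq_one b

theorem comm_iff {v : leechLattice} {q : G} (hq : R v q) : b * q = q * b ↔ Cong v (S.P • v) := by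
  have h := D.conj ⟨b, E.mem⟩ E.img hq
  change R (S.P • v) (b * q * b⁻¹) at h
  constructor
  · intro e
    rw [e, mul_inv_cancel_right] at h
    exact D.congr_of_fixed hq h
  · rintro ⟨u, hu⟩
    rw [hu] at h
    rcases D.unique_congr hq h with e | e
    · exact mul_inv_eq_iff_eq_mul.1 e
    · exfalso
      have hconj : ∀ k : ℕ, b ^ k * q * (b ^ k)⁻¹ = q * z ^ k := by
        intro k
        induction k with
        | zero => simp
        | succ k ih =>
          calc b ^ (k + 1) * q * (b ^ (k + 1))⁻¹ = b * (b ^ k * q * (b ^ k)⁻¹) * b⁻¹ := by rw [pow_succ']; group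
            _ = (b * q * b⁻¹) * (b * z * b⁻¹) ^ k := by rw [ih, conj_pow]; group
            _ = q * z * z ^ k := by rw [e, E.bz, mul_inv_cancel_right]
            _ = q * z ^ (k + 1) := by rw [pow_succ', mul_assoc]
      obtain ⟨m, hm⟩ := E.odd
      have h7 := hconj p
      rw [E.powp, one_mul, inv_one, mul_one, eq_comm, mul_eq_left, hm, pow_succ, pow_mul, pow_two, D.zz, one_pow,
        one_mul] at h7
      exact D.z_ne h7

theorem mem_fixed_iff {v : leechLattice} {q : G} (hq : R v q) : q ∈ fixed Q b ↔ Cong v (S.P • v) := by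
  rw [fixed, mem_inf, mem_centralizer_singleton_iff, ← E.comm_iff hq]
  exact ⟨fun h => h.2.symm, fun h => ⟨D.mem hq, h.symm⟩⟩

theorem z_fixed : z ∈ fixed Q b := ⟨D.core.mem, mem_centralizer_singleton_iff.2 E.bz.symm⟩

theorem exists_fixed_rep {q : G} (hq : q ∈ fixed Q b) : ∃ a, R (S.rep a) q ∨ R (S.rep a) (q * z) := by
  obtain ⟨v, -, hv⟩ := D.short q hq.1
  obtain ⟨a, u, hu⟩ := S.exists_rep E.odd ((E.mem_fixed_iff hv).1 hq)
  obtain ⟨r, hr⟩ := D.repr (S.rep a)
  rw [hu] at hr
  refine ⟨a, ?_⟩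
  rcases D.unique_congr hv hr with e | e <;> rw [← e, hu]
  · exact Or.inl hr
  · exact Or.inr hr

end Elt

/-- A chosen element over a class. -/
def pick (D : Data z Q R π) (S : Std p d) (a : Fin d → ZMod 2) : G := (D.repr (S.rep a)).choose

theorem pick_spec (D : Data z Q R π) (S : Std p d) (a : Fin d → ZMod 2) : R (S.rep a) (pick D S a) :=
  (D.repr (S.rep a)).choose_spec

/-- The element over a class, possibly times the central involution. -/
def elt (D : Data z Q R π) (S : Std p d) (t : (Fin d → ZMod 2) × Bool) : G :=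
  if t.2 then pick D S t.1 * z else pick D S t.1

namespace Elt

variable (E : Elt D S b)
include E

theorem pick_mem (a : Fin d → ZMod 2) : pick D S a ∈ fixed Q b :=
  (E.mem_fixed_iff (pick_spec D S a)).2 (by rw [S.rep_fixed]; exact Cong.refl _)

theorem elt_mem (t : (Fin d → ZMod 2) × Bool) : elt D S t ∈ fixed Q b := by
  rw [elt]; split_ifs
  · exact mul_mem (E.pick_mem _) E.z_fixed
  · exact E.pick_mem _

theorem exists_elt {q : G} (hq : q ∈ fixed Q b) : ∃ t, elt D S t = q := by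
  obtain ⟨a, h | h⟩ := E.exists_fixed_rep hq
  · rcases D.unique (pick_spec D S a) h with e | e
    · exact ⟨(a, false), e.symm⟩
    · exact ⟨(a, true), e.symm⟩
  · rcases D.unique (pick_spec D S a) h with e | e
    · refine ⟨(a, true), ?_⟩
      show pick D S a * z = q
      rw [← e, mul_assoc, D.zz, mul_one]
    · exact ⟨(a, false), (mul_right_cancel e).symm⟩

theorem elt_inj {t t' : (Fin d → ZMod 2) × Bool} (e : elt D S t = elt D S t') : t = t' := by
  have key : pick D S t'.1 = pick D S t.1 ∨ pick D S t'.1 = pick D S t.1 * z := by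
    obtain ⟨n, bn⟩ := t
    obtain ⟨m, bm⟩ := t'
    cases bn <;> cases bm <;> simp [elt] at e
    · exact Or.inl e.symm
    · right; rw [e, mul_assoc, D.zz, mul_one]
    · exact Or.inr e.symm
    · exact Or.inl e.symm
  have hn : t.1 = t'.1 := by
    rcases key with e' | e'
    · exact S.rep_inj (D.congr_of_fixed (pick_spec D S t.1) (e' ▸ pick_spec D S t'.1))
    · exact S.rep_inj (class_shift (pick_spec D S t.1) (e' ▸ pick_spec D S t'.1) D)
  obtain ⟨n, bn⟩ := t
  obtain ⟨m, bm⟩ := t'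
  simp only at hn
  subst hn
  cases bn <;> cases bm <;> simp [elt] at e ⊢
  · exact D.z_ne e
  · exact D.z_ne e

theorem card_fixed : Nat.card (fixed Q b) = 2 ^ (d + 1) := by
  let f : (Fin d → ZMod 2) × Bool → fixed Q b := fun t => ⟨elt D S t, E.elt_mem t⟩
  rw [← Nat.card_congr (Equiv.ofBijective f ⟨?_, ?_⟩)]
  · simp [Nat.card_eq_fintype_card, pow_succ]
  · intro s t h
    exact E.elt_inj (congrArg Subtype.val h)
  · rintro ⟨q, hq⟩
    obtain ⟨t, e⟩ := E.exists_elt hq
    exact ⟨t, Subtype.ext e⟩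

/-- The fixed points have centre `⟨z⟩`. -/
theorem fixed_center {c : G} (hc : c ∈ fixed Q b) (h : ∀ r ∈ fixed Q b, r * c = c * r) : c = 1 ∨ c = z := by
  have hA := commute_zpowers E.bz
  refine D.core.fixed_central (zpowers b) (by rw [Nat.card_zpowers, E.ord]; exact E.odd)
    (fun a ha q hq => D.core.norm a (hA a ha) q hq) hA hc.1 (fun a ha => ?_) fun r hr hra => h r ⟨hr, ?_⟩
  · exact commute_zpowers (mem_centralizer_singleton_iff.1 hc.2).symm a ha
  · exact mem_centralizer_singleton_iff.2 (hra b (mem_zpowers b)).symm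

/-- A long fixed point is conjugate to `z` in the centralizer of the element of odd order. -/
theorem conj_in_centralizer {v : leechLattice} {q : G} (hR : R v q) (hfix : S.P • v = v)
    (h64 : sqNorm (v : GolayPt → ℤ) = 64) :
    q ≠ z ∧ ∃ c : G, c * b = b * c ∧ c * z * c⁻¹ = q := by
  haveI : Fact (Nat.Prime 2) := ⟨Nat.prime_two⟩
  haveI : Fact p.Prime := ⟨E.prime⟩
  have hconj : IsConj z q ∧ q ≠ z := D.conj_of_long E.weak hR h64
  refine ⟨hconj.2, ?_⟩
  obtain ⟨hqQ, hqb⟩ := (E.mem_fixed_iff hR).2 (by rw [hfix]; exact Cong.refl _)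
  have hbq := mem_centralizer_singleton_iff.1 hqb
  obtain ⟨g, hg⟩ := isConj_iff.1 hconj.1
  have hd := D.duo (g := g) (by rw [hg]; exact hqQ) (by rw [hg]; exact hconj.2)
  rw [hg] at hd
  set Q' := Q.map (MulAut.conj g).toMonoidHom with hQ'
  -- fixed points in two cosets
  have key : ∀ (H : Subgroup G) (u r : G), (∀ x ∈ H, b * x * b⁻¹ ∈ H) → IsPGroup 2 H → b * u = u * b →
      b * r = r * b → (∃ y ∈ H, y * u * y⁻¹ = r) → ∃ y ∈ H, b * y = y * b ∧ y * u * y⁻¹ = r := by
    intro H u r hH h2 hp hr ⟨y, hy, hyp⟩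
    let T : Set G := {x | x ∈ H ∧ x * u * x⁻¹ = r}
    have hS : ∀ x ∈ T, b * x * b⁻¹ ∈ T := by
      rintro x ⟨hx, hxp⟩
      refine ⟨hH x hx, ?_⟩
      have hu' : b⁻¹ * u * b = u := by rw [mul_assoc, ← hp, inv_mul_cancel_left]
      calc b * x * b⁻¹ * u * (b * x * b⁻¹)⁻¹ = b * (x * (b⁻¹ * u * b) * x⁻¹) * b⁻¹ := by group
        _ = r := by rw [hu', hxp, hr, mul_inv_cancel_right]
    obtain ⟨a, ha⟩ := (h2.to_le (inf_le_left : H ⊓ centralizer ({u} : Set G) ≤ H)).exists_card_eq
    have hc : T.ncard = 2 ^ a := by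
      rw [← ha, ← Nat.card_coe_set_eq]
      refine Nat.card_congr ⟨fun x => ⟨y⁻¹ * x, ⟨H.mul_mem (H.inv_mem hy) x.2.1, mem_centralizer_singleton_iff.2 ?_⟩⟩,
        fun x => ⟨y * x, ⟨H.mul_mem hy x.2.1, ?_⟩⟩, fun x => Subtype.ext (mul_inv_cancel_left y _),
        fun x => Subtype.ext (inv_mul_cancel_left y _)⟩
      · refine mul_inv_eq_iff_eq_mul.1 ?_
        calc y⁻¹ * (x : G) * u * (y⁻¹ * (x : G))⁻¹ = y⁻¹ * ((x : G) * u * (x : G)⁻¹) * y := by group
          _ = u := by rw [x.2.2, ← hyp]; group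
      · calc y * (x : G) * u * (y * (x : G))⁻¹ = y * ((x : G) * u * (x : G)⁻¹) * y⁻¹ := by group
          _ = r := by rw [mul_inv_eq_iff_eq_mul.2 (mem_centralizer_singleton_iff.1 x.2.2), hyp]
    obtain ⟨x, hx, hxb⟩ := exists_fixed_prime (p := p) E.two_lt E.powp T hS hc
    exact ⟨x, hx.1, hxb, hx.2⟩
  have hbz := E.bz
  have hbzq : b * (z * q) = z * q * b := by rw [← mul_assoc, hbz, mul_assoc, ← hbq, mul_assoc]
  obtain ⟨y, hy, hyb, hyq⟩ := key Q q (z * q) (fun x hx => D.core.norm b hbz x hx) D.half.two hbq.symm hbzq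
    hd.exists_move
  obtain ⟨y', hy', hy'b, hy'z⟩ := key Q' z (q * z) (fun x hx => hd.right.norm b hbq.symm x hx) hd.right.two hbz
    (by rw [← mul_assoc, ← hbq, mul_assoc, hbz, mul_assoc]) hd.symm.exists_move
  refine ⟨y⁻¹ * y', ?_, ?_⟩
  · calc y⁻¹ * y' * b = y⁻¹ * (b * y') := by rw [mul_assoc, hy'b]
      _ = y⁻¹ * (b * y) * y⁻¹ * y' := by group
      _ = b * (y⁻¹ * y') := by rw [hyb]; group
  · calc y⁻¹ * y' * z * (y⁻¹ * y')⁻¹ = y⁻¹ * (y' * z * y'⁻¹) * y := by group
      _ = y⁻¹ * (z * q) * y := by rw [hy'z, D.half.cz q hqQ]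
      _ = q := by rw [← hyq]; group

end Elt

end

end CfsgLib.Spor.MonsterType.Prime
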