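import Cfsg.Agent.Lib.Spor.MonsterType.Prime.Standard
import Cfsg.Agent.Lib.Spor.ElementClasses
import Cfsg.Agent.Lib.Spor.SylowSeven

/-!
# Elements of order three in the joint centralizer: central in a Sylow 3-subgroup or not, and their fixed points
-/

set_option autoImplicit false

namespace CfsgLib.Spor.MonsterType.Prime

open Subgroup CfsgLib.Spor CfsgLib.Spor.Leech
open Cfsg (leechLattice Co0 sqNorm GolayPt M24)
open scoped Pointwise

noncomputable section

/-! ### The permutation part of an element of the cross stabiliser -/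

theorem signs_split_unique {n n' : crossStab} (hn : n ∈ signs) (hn' : n' ∈ signs) {σ σ' : M24}
    (e : n * prm σ = n' * prm σ') : σ = σ' := by
  have h : prm (σ * σ'⁻¹) ∈ signs := by
    have : prm (σ * σ'⁻¹) = n⁻¹ * n' := by
      rw [map_mul, map_inv, eq_inv_mul_iff_mul_eq, ← mul_assoc, e, mul_inv_cancel_right]
    rw [this]
    exact mul_mem (inv_mem hn) hn'
  exact mul_inv_eq_one.1 (prm_mem_signs h)

/-- The permutation part. -/
def perPart (x : crossStab) : M24 := (split x).choose_spec.2.choose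

theorem perPart_spec (x : crossStab) : ∃ n ∈ signs, x = n * prm (perPart x) :=
  ⟨_, (split x).choose_spec.1, (split x).choose_spec.2.choose_spec⟩

theorem perPart_eq {x n : crossStab} (hn : n ∈ signs) {σ : M24} (e : x = n * prm σ) : perPart x = σ := by
  obtain ⟨m, hm, em⟩ := perPart_spec x
  exact signs_split_unique hm hn (em.symm.trans e)

/-- The homomorphism onto the Mathieu group. -/
def perHom : crossStab →* M24 :=
  MonoidHom.mk' perPart fun x y => by
    haveI := signs_normal
    obtain ⟨n, hn, ex⟩ := perPart_spec x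
    obtain ⟨m, hm, ey⟩ := perPart_spec y
    refine perPart_eq (mul_mem hn (signs_normal.conj_mem m hm (prm (perPart x)))) ?_
    conv_lhs => rw [ex, ey]
    rw [map_mul]; group

theorem perHom_prm (σ : M24) : perHom (prm σ) = σ := perPart_eq (one_mem _) (one_mul _).symm

theorem perHom_ker : perHom.ker = signs := by
  ext x
  rw [MonoidHom.mem_ker]
  constructor
  · intro h
    obtain ⟨n, hn, e⟩ := perPart_spec x
    change perPart x = 1 at h
    rw [e, h, map_one, mul_one]
    exact hn
  · intro h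
    exact perPart_eq h (by rw [map_one, mul_one])

/-- An element of order three is conjugate to the permutation automorphism of any conjugate of its permutation part. -/
theorem exists_conj_prm {y : crossStab} (hy : y ^ 3 = 1) {ρ : M24} (hρ : orderOf ρ = 3)
    (hc : ∃ l : M24, l * perHom y * l⁻¹ = ρ) : ∃ k : crossStab, k * y * k⁻¹ = prm ρ := by
  classical
  haveI : Fact (Nat.Prime 3) := ⟨Nat.prime_three⟩
  obtain ⟨l, hl⟩ := hc
  set w := prm l * y * (prm l)⁻¹ with hw
  have hwτ : perHom w = ρ := by rw [hw, map_mul, map_mul, map_inv, perHom_prm, hl]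
  have hw3 : orderOf w = 3 := by
    refine orderOf_eq_prime (by rw [hw, conj_pow, hy, mul_one, mul_inv_cancel]) fun h => ?_
    rw [h, map_one] at hwτ
    rw [← hwτ, orderOf_one] at hρ
    norm_num at hρ
  set K := (zpowers ρ).comap perHom with hK
  have hwK : w ∈ K := by rw [hK, mem_comap, hwτ]; exact mem_zpowers ρ
  have hpK : prm ρ ∈ K := by rw [hK, mem_comap, perHom_prm]; exact mem_zpowers ρ
  let f : K →* zpowers ρ := (perHom.comp K.subtype).codRestrict _ fun x => x.2
  have hcard : Nat.card K = 4096 * 3 := by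
    have hfs : Function.Surjective f := fun ⟨t, ht⟩ =>
      ⟨⟨prm t, by rw [hK, mem_comap, perHom_prm]; exact ht⟩, Subtype.ext (perHom_prm t)⟩
    have hke : f.ker = signs.subgroupOf K := by
      ext x
      rw [MonoidHom.mem_ker, mem_subgroupOf, ← perHom_ker, MonoidHom.mem_ker]
      exact Subtype.ext_iff
    rw [← f.ker.card_mul_index, index_ker, MonoidHom.range_eq_top.2 hfs, card_top, Nat.card_zpowers, hρ, hke,
      Nat.card_congr (subgroupOfEquivOfLe (show signs ≤ K from fun x hx => by
        rw [hK, mem_comap, show perHom x = 1 from MonoidHom.mem_ker.1 (perHom_ker ▸ hx)]; exact one_mem _)).toEquiv,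
      card_signs]
  have hfac : (Nat.card K).factorization 3 = 1 := by
    rw [hcard, Nat.factorization_mul (by norm_num) (by norm_num), Finsupp.add_apply,
      Nat.Prime.factorization_self Nat.prime_three, Nat.factorization_eq_zero_of_not_dvd (by norm_num)]
  have hprm3 : orderOf (⟨prm ρ, hpK⟩ : K) = 3 := by
    rw [← orderOf_coe, orderOf_injective prm (fun a c h => by
      have := congrArg perHom h; rwa [perHom_prm, perHom_prm] at this), hρ]
  let S₁ : Sylow 3 K := Sylow.ofCard (zpowers ⟨w, hwK⟩)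
    (by rw [Nat.card_zpowers, ← orderOf_coe, hw3, hfac, pow_one])
  let S₂ : Sylow 3 K := Sylow.ofCard (zpowers ⟨prm ρ, hpK⟩) (by rw [Nat.card_zpowers, hprm3, hfac, pow_one])
  obtain ⟨k, hk⟩ := MulAction.exists_smul_eq K S₁ S₂
  have hk' : (zpowers (⟨w, hwK⟩ : K)).map (MulAut.conj k).toMonoidHom = zpowers ⟨prm ρ, hpK⟩ :=
    congrArg Sylow.toSubgroup hk
  have hm : k * ⟨w, hwK⟩ * k⁻¹ ∈ zpowers (⟨prm ρ, hpK⟩ : K) := by
    rw [← hk']; exact ⟨_, mem_zpowers _, rfl⟩
  obtain ⟨i, hi⟩ := mem_zpowers_iff.1 hm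
  have hi' : (prm ρ) ^ i = (k : crossStab) * w * (k : crossStab)⁻¹ := congrArg Subtype.val hi
  have hτ := congrArg perHom hi'
  rw [map_zpow, map_mul, map_mul, map_inv, perHom_prm, hwτ] at hτ
  obtain ⟨j, hj⟩ := mem_zpowers_iff.1 (show perHom (k : crossStab) ∈ zpowers ρ from k.2)
  rw [← hj, (Commute.zpow_self ρ j).eq, mul_inv_cancel_right] at hτ
  refine ⟨(k : crossStab) * prm l, ?_⟩
  have hpi : (prm ρ) ^ i = prm ρ := by rw [← map_zpow, hτ]
  rw [show (k : crossStab) * prm l * y * ((k : crossStab) * prm l)⁻¹ = (k : crossStab) * w * (k : crossStab)⁻¹ by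
    rw [hw]; group, ← hi', hpi]

/-! ### The centre of a Sylow 3-subgroup of the Mathieu group -/

/-- A central element of the listed Sylow 3-subgroup. -/
def threeCentral : ℕ := 0x40f49a1cd496d25bd4c3562418ae1

set_option maxRecDepth 100000 in
theorem threeCentral_facts :
    (List.range 27).all (fun i => commCodes (arrGet 120 sylThreeW i) threeCentral) = true ∧
    (List.range 27).any (fun i => arrGet 120 sylThreeW i == threeCentral) = true ∧
    (List.range 27).all (fun i => !((List.range 27).all fun j => commCodes (arrGet 120 sylThreeW i) (arrGet 120 sylThreeW j)) ||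
      (arrGet 120 sylThreeW i == idPacked || pop 24 (fixMaskOf (arrGet 120 sylThreeW i)) == 6)) = true ∧
    pop 24 (fixMaskOf threeCentral) = 6 ∧ powCode threeCentral 3 = idPacked := by
  refine ⟨by decide +kernel, by decide +kernel, by decide +kernel, by decide +kernel, by decide +kernel⟩

/-- Central in a Sylow 3-subgroup of the Mathieu group if and only if six points are fixed. -/
theorem central_iff {x : M24} (hx : orderOf x = 3) :
    (∃ P : Sylow 3 M24, x ∈ (P : Subgroup M24) ∧ ∀ y ∈ (P : Subgroup M24), y * x = x * y) ↔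
      (fixSet (x : Equiv.Perm GolayPt)).card = 6 := by
  classical
  haveI : Fact (Nat.Prime 3) := ⟨Nat.prime_three⟩
  obtain ⟨H, hH, hcard, hmem⟩ := listed_subgroup sylThree_list sylThree_distinct
  have hcode : ∀ i < 27, isPermCode (arrGet 120 sylThreeW i) = true := fun i hi => by
    have h := sylThree_list.2.2.2 i hi
    simp only [listRow, Bool.and_eq_true] at h
    exact h.1
  have hfac : (Nat.card M24).factorization 3 = 3 := by
    rw [card_M24, show (244823040 : ℕ) = 3 ^ 3 * 9067520 by norm_num, Nat.factorization_mul (by norm_num) (by norm_num),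
      Finsupp.add_apply, Nat.Prime.factorization_pow Nat.prime_three, Finsupp.single_eq_same,
      Nat.factorization_eq_zero_of_not_dvd (by norm_num)]
  let P0 : Sylow 3 M24 := Sylow.ofCard (H.subgroupOf M24)
    (by rw [Nat.card_congr (subgroupOfEquivOfLe hH).toEquiv, hcard, hfac]; norm_num)
  obtain ⟨f1, f2, f3, f4, f5⟩ := threeCentral_facts
  simp only [List.any_eq_true, List.mem_range, beq_iff_eq] at f2
  obtain ⟨i0, hi0, e0⟩ := f2
  have hz0H : permOf threeCentral ∈ H := (hmem _).2 ⟨i0, hi0, by rw [e0]⟩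
  have hz0c : isPermCode threeCentral = true := e0 ▸ hcode i0 hi0
  constructor
  · rintro ⟨P, hxP, hcomm⟩
    obtain ⟨g, hg⟩ := MulAction.exists_smul_eq M24 P P0
    have hg' : (P : Subgroup M24).map (MulAut.conj g).toMonoidHom = (P0 : Subgroup M24) :=
      congrArg Sylow.toSubgroup hg
    have hin : g * x * g⁻¹ ∈ (P0 : Subgroup M24) := by rw [← hg']; exact ⟨x, hxP, rfl⟩
    obtain ⟨i, hi, ei⟩ := (hmem _).1 (mem_subgroupOf.1 hin)
    have hall : (List.range 27).all (fun j => commCodes (arrGet 120 sylThreeW i) (arrGet 120 sylThreeW j)) = true := by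
      refine List.all_eq_true.2 fun j hj => commCodes_of (hcode i hi) (hcode j (List.mem_range.1 hj)) ?_
      have hjH : permOf (arrGet 120 sylThreeW j) ∈ H := (hmem _).2 ⟨j, List.mem_range.1 hj, rfl⟩
      have hjP : (⟨_, hH hjH⟩ : M24) ∈ (P0 : Subgroup M24) := mem_subgroupOf.2 hjH
      rw [← hg'] at hjP
      obtain ⟨y, hy, ey⟩ := hjP
      have e2 : g * x * g⁻¹ * (g * y * g⁻¹) = g * y * g⁻¹ * (g * x * g⁻¹) := by
        rw [show g * x * g⁻¹ * (g * y * g⁻¹) = g * (x * y) * g⁻¹ by group,
          show g * y * g⁻¹ * (g * x * g⁻¹) = g * (y * x) * g⁻¹ by group, hcomm y hy]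
      have e3 : g * y * g⁻¹ = (⟨_, hH hjH⟩ : M24) := ey
      rw [e3] at e2
      rw [ei]
      exact congrArg Subtype.val e2
    have h6 := List.all_eq_true.1 f3 i (List.mem_range.2 hi)
    rw [hall] at h6
    simp only [Bool.not_true, Bool.false_or, Bool.or_eq_true, beq_iff_eq] at h6
    rw [← card_fixSet_conj (g : Equiv.Perm GolayPt),
      show (g : Equiv.Perm GolayPt) * x * (g : Equiv.Perm GolayPt)⁻¹ = permOf (arrGet 120 sylThreeW i) from ei.symm]
    rcases h6 with h | h
    · exfalso
      have h1 : g * x * g⁻¹ = 1 := Subtype.ext (ei.symm.trans (by rw [h, permOf_idPacked]; rfl))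
      rw [conj_eq_one_iff] at h1
      rw [h1, orderOf_one] at hx
      norm_num at hx
    · rw [fixSet_permOf (hcode i hi), card_pts, h]
  · intro h6
    have hz3 : orderOf (permOf threeCentral) = 3 := by
      refine orderOf_eq_prime (by rw [← (permOf_powCode hz0c 3).1, f5, permOf_idPacked]) fun h => ?_
      have := congrArg (fun s => (fixSet s).card) h
      rw [fixSet_permOf hz0c, card_pts, f4, show fixSet 1 = Finset.univ from Finset.filter_true_of_mem fun p _ => rfl,
        Finset.card_univ, show Fintype.card GolayPt = 24 by decide +kernel] at this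
      omega
    obtain ⟨k, hk, ek⟩ := conj_of_same_rep
      (fun r hr => ((Bool.and_eq_true _ _).mp (List.all_eq_true.1 reps_three.1 r hr)).1)
      (by rw [reps_three.2]; decide) (exists_rep_three (hH hz0H) hz3)
      (exists_rep_three x.2 (by rw [orderOf_coe]; exact hx))
      (by rw [fixSet_permOf hz0c, card_pts, f4, h6])
    set k' : M24 := ⟨k, hk⟩
    refine ⟨k' • P0, ?_, fun y hy => ?_⟩
    · exact ⟨⟨_, hH hz0H⟩, mem_subgroupOf.2 hz0H, Subtype.ext ek⟩
    · obtain ⟨u, hu, rfl⟩ := hy
      obtain ⟨i, hi, ei⟩ := (hmem _).1 (mem_subgroupOf.1 hu)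
      refine Subtype.ext ?_
      show (k * (u : Equiv.Perm GolayPt) * k⁻¹) * (x : Equiv.Perm GolayPt) = _ * (k * (u : Equiv.Perm GolayPt) * k⁻¹)
      rw [← ek]
      have hc := eq_mul_of_commCodes (hcode i hi) hz0c (List.all_eq_true.1 f1 i (List.mem_range.2 hi))
      rw [ei] at hc
      rw [show k * (u : Equiv.Perm GolayPt) * k⁻¹ * (k * permOf threeCentral * k⁻¹) =
          k * ((u : Equiv.Perm GolayPt) * permOf threeCentral) * k⁻¹ by group,
        show k * permOf threeCentral * k⁻¹ * (k * (u : Equiv.Perm GolayPt) * k⁻¹) =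
          k * (permOf threeCentral * (u : Equiv.Perm GolayPt)) * k⁻¹ by group, hc]

/-! ### In the joint centralizer -/

variable {G : Type*} [Group G] [Finite G] {z : G} {Q : Subgroup G} {R : leechLattice → G → Prop}
  {π : ↥(centralizer ({z} : Set G)) →* Cfsg.Spor.Co1}

/-- The permutation part determines whether the generated subgroup is 3-central in the joint centralizer. -/
theorem three_central_iff (D : Data z Q R π) {s : G} {h : Co0}
    (himg : ((centralizer ({z, s} : Set G)).subgroupOf (centralizer ({z} : Set G))).map π = (crossMap h).range)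
    {b : G} (hb : b ∈ centralizer ({z} : Set G)) (hbX : b ∈ centralizer ({z, s} : Set G)) (hord : orderOf b = 3)
    {y : crossStab} (hy3 : y ^ 3 = 1) (hy1 : y ≠ 1) (hy : crossMap h y = π ⟨b, hb⟩) :
    (∃ P : Sylow 3 ↥(centralizer ({z, s} : Set G)), (zpowers b).subgroupOf (centralizer ({z, s} : Set G)) ≤
      (center ↥(P : Subgroup ↥(centralizer ({z, s} : Set G)))).map
        (P : Subgroup ↥(centralizer ({z, s} : Set G))).subtype) ↔
      (fixSet (perHom y : Equiv.Perm GolayPt)).card = 6 := by
  classical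
  haveI : Fact (Nat.Prime 3) := ⟨Nat.prime_three⟩
  haveI : Fact (Nat.Prime 2) := ⟨Nat.prime_two⟩
  set X := centralizer ({z, s} : Set G) with hX
  have hXz : X ≤ centralizer ({z} : Set G) := centralizer_le (by simp)
  have hrng : ∀ c : X, ∃ x : crossStab, crossMap h x = π ⟨c, hXz c.2⟩ := fun c => by
    have : π ⟨c, hXz c.2⟩ ∈ (crossMap h).range :=
      himg ▸ mem_map_of_mem π (mem_subgroupOf.2 (show ((⟨c, hXz c.2⟩ : centralizer ({z} : Set G)) : G) ∈ X from c.2))
    exact this
  choose lift hlift using hrng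
  have hwell : ∀ x x' : crossStab, crossMap h x = crossMap h x' → perHom x = perHom x' := fun x x' e => by
    have : x⁻¹ * x' ∈ signs := crossMap_ker h (by rw [map_mul, map_inv, e, inv_mul_cancel])
    rw [← perHom_ker, MonoidHom.mem_ker, map_mul, map_inv, inv_mul_eq_one] at this
    exact this
  let Φ : X →* M24 := MonoidHom.mk' (fun c => perHom (lift c)) fun c d => by
    rw [← map_mul]
    refine hwell _ _ ?_
    rw [map_mul, hlift, hlift, hlift, ← map_mul]
    rfl
  have hΦs : Function.Surjective Φ := fun σ => by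
    obtain ⟨c, hc, e⟩ : crossMap h (prm σ) ∈ (X.subgroupOf (centralizer ({z} : Set G))).map π := by
      rw [himg]; exact ⟨prm σ, rfl⟩
    refine ⟨⟨c, mem_subgroupOf.1 hc⟩, ?_⟩
    show perHom (lift _) = σ
    rw [hwell _ (prm σ) ((hlift _).trans e), perHom_prm]
  have hker : IsPGroup 2 Φ.ker := by
    intro c
    have h1 : perHom (lift c.1) = 1 := MonoidHom.mem_ker.1 c.2
    have hs : lift c.1 ∈ signs := by rw [← perHom_ker, MonoidHom.mem_ker]; exact h1
    have h2 : π ⟨(c.1 : G) ^ 2, pow_mem (hXz c.1.2) 2⟩ = 1 := by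
      have : (⟨(c.1 : G) ^ 2, pow_mem (hXz c.1.2) 2⟩ : centralizer ({z} : Set G)) = ⟨c.1, hXz c.1.2⟩ ^ 2 :=
        Subtype.ext rfl
      rw [this, map_pow, ← hlift, ← map_pow, signs_sq hs, map_one]
    obtain ⟨n, hn⟩ := D.half.two ⟨_, (D.kerπ _).1 h2⟩
    refine ⟨n + 1, Subtype.ext (Subtype.ext ?_)⟩
    have e := congrArg Subtype.val hn
    simp only [coe_pow, OneMemClass.coe_one] at e ⊢
    rw [pow_succ', pow_mul, e]
  have hdisj : ∀ P : Sylow 3 X, Function.Injective (Φ.comp (P : Subgroup X).subtype) := by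
    intro P
    rw [injective_iff_map_eq_one]
    intro c hc
    have hd := IsPGroup.disjoint_of_ne 2 3 (by norm_num) Φ.ker (P : Subgroup X) hker P.isPGroup'
    exact Subtype.ext ((Subgroup.mem_bot).1 (hd.le_bot ⟨MonoidHom.mem_ker.2 hc, c.2⟩))
  set bX : X := ⟨b, hbX⟩
  have hΦb : Φ bX = perHom y := hwell _ _ ((hlift bX).trans hy.symm)
  have hΦo : orderOf (Φ bX) = 3 := by
    rw [hΦb]
    refine orderOf_eq_prime (by rw [← map_pow, hy3, map_one]) fun h1 => ?_
    have hsg : y ∈ signs := by rw [← perHom_ker, MonoidHom.mem_ker]; exact h1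
    exact hy1 (by rw [← hy3, pow_succ, signs_sq hsg, one_mul])
  rw [← hΦb, ← central_iff hΦo]
  constructor
  · rintro ⟨P, hP⟩
    obtain ⟨c, hc, e⟩ := hP (mem_subgroupOf.2 (mem_zpowers b) : bX ∈ _)
    have e' : (c : X) = bX := e
    refine ⟨P.mapSurjective hΦs, ⟨bX, e' ▸ c.2, rfl⟩, ?_⟩
    rintro _ ⟨d, hd, rfl⟩
    rw [← map_mul, ← map_mul, ← e']
    exact congrArg (fun t : (P : Subgroup X) => Φ t) (mem_center_iff.1 hc ⟨d, hd⟩)
  · rintro ⟨P', hbP, hcomm⟩
    set K := (P' : Subgroup M24).comap Φ with hK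
    have hbK : bX ∈ K := hbP
    have hb3 : IsPGroup 3 (zpowers (⟨bX, hbK⟩ : K)) := IsPGroup.of_card (n := 1) (by
      rw [Nat.card_zpowers, ← orderOf_coe, ← orderOf_coe, pow_one]; exact hord)
    obtain ⟨PK, hPK⟩ := hb3.exists_le_sylow
    obtain ⟨P, hP⟩ := (PK.isPGroup'.map K.subtype).exists_le_sylow
    have hbP2 : bX ∈ (P : Subgroup X) := hP ⟨_, hPK (mem_zpowers _), rfl⟩
    have himgP : (P : Subgroup X).map Φ = (P' : Subgroup M24) := by
      have hcardP : Nat.card ((P : Subgroup X).map Φ) = Nat.card (P' : Subgroup M24) :=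
        ((P.mapSurjective hΦs).card_eq_multiplicity).trans P'.card_eq_multiplicity.symm
      have hsub : ((PK : Subgroup K).map K.subtype).map Φ ≤ (P' : Subgroup M24) := by
        rintro _ ⟨_, ⟨c, -, rfl⟩, rfl⟩
        exact c.2
      have hsurjK : ((PK : Subgroup K).map K.subtype).map Φ = (P' : Subgroup M24) := by
        let ΦK : K →* (P' : Subgroup M24) := (Φ.comp K.subtype).codRestrict _ fun c => c.2
        have hs : Function.Surjective ΦK := fun ⟨t, ht⟩ => by
          obtain ⟨c, rfl⟩ := hΦs t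
          exact ⟨⟨c, ht⟩, rfl⟩
        refine le_antisymm hsub fun t ht => ?_
        have htop : (PK.mapSurjective hs).toSubgroup = ⊤ := by
          refine eq_top_of_card_eq _ ?_
          rw [Sylow.card_eq_multiplicity]
          obtain ⟨n, hn⟩ := P'.isPGroup'.exists_card_eq
          rw [hn, Nat.Prime.factorization_pow Nat.prime_three, Finsupp.single_eq_same]
        obtain ⟨c, hc, e⟩ := (htop.symm ▸ mem_top _ :
          (⟨t, ht⟩ : (P' : Subgroup M24)) ∈ (PK.mapSurjective hs).toSubgroup)
        exact ⟨(c : X), ⟨c, hc, rfl⟩, congrArg Subtype.val e⟩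
      have hle : (P' : Subgroup M24) ≤ (P : Subgroup X).map Φ := hsurjK.symm.le.trans (map_mono hP)
      exact (eq_of_le_of_card_ge hle hcardP.le).symm
    refine ⟨P, fun c hc => ?_⟩
    obtain ⟨i, hi⟩ := mem_zpowers_iff.1 (mem_subgroupOf.1 hc)
    have hce : c = bX ^ i := Subtype.ext (by rw [coe_zpow]; exact hi.symm)
    refine ⟨⟨bX ^ i, zpow_mem hbP2 i⟩, ?_, hce.symm⟩
    rw [SetLike.mem_coe, show (⟨bX ^ i, zpow_mem hbP2 i⟩ : (P : Subgroup X)) = ⟨bX, hbP2⟩ ^ i from Subtype.ext rfl]
    refine zpow_mem (mem_center_iff.2 fun d => hdisj P ?_) i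
    have hdP : Φ d ∈ (P' : Subgroup M24) := himgP ▸ mem_map_of_mem Φ d.2
    show Φ ((d : X) * bX) = Φ (bX * (d : X))
    rw [map_mul, map_mul]
    exact hcomm _ hdP

end

end CfsgLib.Spor.MonsterType.Prime
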